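import Cfsg.Agent.Lib.Lyons.Classes
import Cfsg.Agent.Lib.Lyons.Cover1

/-!
# The certificates of class 1
-/

set_option autoImplicit false
set_option maxRecDepth 100000
set_option Elab.async false

namespace Cfsg.Agent.Lyons

open Cfsg.Agent.CosetEnum

theorem cover1_roots : coverRoots1.all (rootOK 1) = true := by decide +kernel

theorem cover1_exps : expsOK 1 (towerExps1.getD 0 []) = true := by decide +kernel

theorem cover1_forest : forestOK lyHTab
    (mergeOrbits 19 (expWords (towerExps1.getD 0 [])) cover1 (coverRoots1.map rootPt)) = true := by
  decide +kernel

/-- The cover of class 1. -/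
noncomputable def coverCert1 : CoverCert 1 where
  cover := cover1
  roots := coverRoots1
  exps := towerExps1.getD 0 []
  roots_ok := cover1_roots
  exps_ok := cover1_exps
  forest := cover1_forest

end Cfsg.Agent.Lyons
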