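import Cfsg.Agent.Lib.Lyons.Classes
import Cfsg.Agent.Lib.Lyons.Cover2

/-!
# The certificates of class 2
-/

set_option autoImplicit false
set_option maxRecDepth 100000
set_option Elab.async false

namespace Cfsg.Agent.Lyons

open Cfsg.Agent.CosetEnum

theorem cover2_roots : coverRoots2.all (rootOK 2) = true := by decide +kernel

theorem cover2_exps : expsOK 2 (towerExps2.getD 0 []) = true := by decide +kernel

theorem cover2_forest : forestOK lyHTab
    (mergeOrbits 19 (expWords (towerExps2.getD 0 [])) cover2 (coverRoots2.map rootPt)) = true := by
  decide +kernel

/-- The cover of class 2. -/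
noncomputable def coverCert2 : CoverCert 2 where
  cover := cover2
  roots := coverRoots2
  exps := towerExps2.getD 0 []
  roots_ok := cover2_roots
  exps_ok := cover2_exps
  forest := cover2_forest

theorem tow2_0_reach : lyHTab.reachOK tow2_0 = true := by decide +kernel

theorem tow2_0_fix : Setup.fixRootsOK lyHTab tow2_0 [] = true := by decide +kernel

theorem tow2_1_reach : lyHTab.reachOK tow2_1 = true := by decide +kernel

theorem tow2_1_fix : Setup.fixRootsOK lyHTab tow2_1 [0] = true := by decide +kernel

theorem tow2_2_reach : lyHTab.reachOK tow2_2 = true := by decide +kernel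

theorem tow2_2_fix : Setup.fixRootsOK lyHTab tow2_2 [1, 0] = true := by decide +kernel

theorem tower2_exps : towerExps2.all (expsOK 2) = true := by decide +kernel

theorem tower2_words : (tower2.map fun O => O.words) = towerExps2.map expWords := by decide +kernel

theorem tower2_chain : Setup.chainOK lyHTab tower2 [] = true :=
  Setup.chainOK_cons tow2_0_reach tow2_0_fix (Setup.chainOK_cons tow2_1_reach tow2_1_fix (Setup.chainOK_cons tow2_2_reach tow2_2_fix (Setup.chainOK_nil _ _)))

/-- The stabiliser of class 2. -/
noncomputable def towerCert2 : TowerCert 2 where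
  tower := tower2
  exps := towerExps2
  size := 5812500
  exps_ok := tower2_exps
  words_ok := tower2_words
  chain := tower2_chain
  size_ok := by decide +kernel

end Cfsg.Agent.Lyons
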