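import Cfsg.Agent.Lib.Lyons.Classes
import Cfsg.Agent.Lib.Lyons.Cover3

/-!
# The certificates of class 3
-/

set_option autoImplicit false
set_option maxRecDepth 100000
set_option Elab.async false

namespace Cfsg.Agent.Lyons

open Cfsg.Agent.CosetEnum

theorem cover3_roots : coverRoots3.all (rootOK 3) = true := by decide +kernel

theorem cover3_exps : expsOK 3 (towerExps3.getD 0 []) = true := by decide +kernel

theorem cover3_forest : forestOK lyHTab
    (mergeOrbits 19 (expWords (towerExps3.getD 0 [])) cover3 (coverRoots3.map rootPt)) = true := by
  decide +kernel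

/-- The cover of class 3. -/
noncomputable def coverCert3 : CoverCert 3 where
  cover := cover3
  roots := coverRoots3
  exps := towerExps3.getD 0 []
  roots_ok := cover3_roots
  exps_ok := cover3_exps
  forest := cover3_forest

theorem tow3_0_reach : lyHTab.reachOK tow3_0 = true := by decide +kernel

theorem tow3_0_fix : Setup.fixRootsOK lyHTab tow3_0 [] = true := by decide +kernel

theorem tow3_1_reach : lyHTab.reachOK tow3_1 = true := by decide +kernel

theorem tow3_1_fix : Setup.fixRootsOK lyHTab tow3_1 [0] = true := by decide +kernel

theorem tow3_2_reach : lyHTab.reachOK tow3_2 = true := by decide +kernel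

theorem tow3_2_fix : Setup.fixRootsOK lyHTab tow3_2 [1, 0] = true := by decide +kernel

theorem tow3_3_reach : lyHTab.reachOK tow3_3 = true := by decide +kernel

theorem tow3_3_fix : Setup.fixRootsOK lyHTab tow3_3 [3, 1, 0] = true := by decide +kernel

theorem tower3_exps : towerExps3.all (expsOK 3) = true := by decide +kernel

theorem tower3_words : (tower3.map fun O => O.words) = towerExps3.map expWords := by decide +kernel

theorem tower3_chain : Setup.chainOK lyHTab tower3 [] = true :=
  Setup.chainOK_cons tow3_0_reach tow3_0_fix (Setup.chainOK_cons tow3_1_reach tow3_1_fix (Setup.chainOK_cons tow3_2_reach tow3_2_fix (Setup.chainOK_cons tow3_3_reach tow3_3_fix (Setup.chainOK_nil _ _))))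

/-- The stabiliser of class 3. -/
noncomputable def towerCert3 : TowerCert 3 where
  tower := tower3
  exps := towerExps3
  size := 968750
  exps_ok := tower3_exps
  words_ok := tower3_words
  chain := tower3_chain
  size_ok := by decide +kernel

end Cfsg.Agent.Lyons
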