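import Cfsg.Agent.Lib.Lyons.Classes
import Cfsg.Agent.Lib.Lyons.Cover4

/-!
# The certificates of class 4
-/

set_option autoImplicit false
set_option maxRecDepth 100000
set_option Elab.async false

namespace Cfsg.Agent.Lyons

open Cfsg.Agent.CosetEnum

theorem cover4_roots : coverRoots4.all (rootOK 4) = true := by decide +kernel

theorem cover4_exps : expsOK 4 (towerExps4.getD 0 []) = true := by decide +kernel

theorem cover4_forest : forestOK lyHTab
    (mergeOrbits 19 (expWords (towerExps4.getD 0 [])) cover4 (coverRoots4.map rootPt)) = true := by
  decide +kernel

/-- The cover of class 4. -/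
noncomputable def coverCert4 : CoverCert 4 where
  cover := cover4
  roots := coverRoots4
  exps := towerExps4.getD 0 []
  roots_ok := cover4_roots
  exps_ok := cover4_exps
  forest := cover4_forest

theorem tow4_0_reach : lyHTab.reachOK tow4_0 = true := by decide +kernel

theorem tow4_0_fix : Setup.fixRootsOK lyHTab tow4_0 [] = true := by decide +kernel

theorem tower4_exps : towerExps4.all (expsOK 4) = true := by decide +kernel

theorem tower4_words : (tower4.map fun O => O.words) = towerExps4.map expWords := by decide +kernel

theorem tower4_chain : Setup.chainOK lyHTab tower4 [] = true :=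
  Setup.chainOK_cons tow4_0_reach tow4_0_fix (Setup.chainOK_nil _ _)

/-- The stabiliser of class 4. -/
noncomputable def towerCert4 : TowerCert 4 where
  tower := tower4
  exps := towerExps4
  size := 2034375
  exps_ok := tower4_exps
  words_ok := tower4_words
  chain := tower4_chain
  size_ok := by decide +kernel

end Cfsg.Agent.Lyons
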