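import Cfsg.Agent.Lib.Lyons.Derive

/-!
# Orbits of the five classes of cosets

* `CoverCert`, `TowerCert` : the certificates of one class
* `cover_spec` : every point is a translate of a defining point by a fixing element
* `orbit_le`, `orbit_one_le` : the bounds for the orbits of the classes
-/

set_option autoImplicit false
set_option maxRecDepth 100000

namespace Cfsg.Agent.Lyons

open Cfsg Cfsg.Spor Cfsg.Agent.CosetEnum Cfsg.Agent.StabCert
open Cfsg.Agent.HNPresented (winv wordEl_winv wordEl_cons wordEl_nil Cfg)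
open Cfsg.Agent.LyPresented (lyH)

/-- The words of a level, in the order of application. -/
noncomputable def expWords (es : List (List ℕ)) : List (List ℕ) := es.map fun e => (cfg.lexp e).reverse

/-- Products of fixing elements of a class. -/
noncomputable def expsOK (i : ℕ) (es : List (List ℕ)) : Bool :=
  es.all fun e => cfg.lOK fixes.length i e && cfg.okW (cfg.lexp e)

/-- The check of one root of a cover. -/
noncomputable def rootOK (i n : ℕ) : Bool :=
  Nat.blt n facts.length && (cfg.fact n).1 == i && cfg.okW (cfg.fact n).2.1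

/-- The point at which an equation starts. -/
noncomputable def rootPt (n : ℕ) : ℕ := StabCert.ev 19 tab (winv (cfg.fact n).2.1) 0

/-- The cover of one class: a forest under fixing elements, and the defining equations of its roots. -/
structure CoverCert (i : ℕ) where
  cover : List OrbitData
  roots : List ℕ
  exps : List (List ℕ)
  roots_ok : roots.all (rootOK i) = true
  exps_ok : expsOK i exps = true
  forest : forestOK lyHTab (mergeOrbits 19 (expWords exps) cover (roots.map rootPt)) = true

/-- A stabiliser chain of fixing elements of one class, and the size of the orbit. -/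
structure TowerCert (i : ℕ) where
  tower : List OrbitData
  exps : List (List (List ℕ))
  size : ℕ
  exps_ok : exps.all (expsOK i) = true
  words_ok : (tower.map fun O => O.words) = exps.map expWords
  chain : Setup.chainOK lyHTab tower [] = true
  size_ok : size * Setup.chainSize tower = 5859000000

theorem tw_eq_ev : ∀ {v : List ℕ}, OkW v → ∀ i < 19530, lyHTab.tw v.reverse i = StabCert.ev 19 tab v i
  | [], _, i, _ => rfl
  | a :: l, hv, i, hi => by
    have hl : OkW l := fun b hb => hv b (List.mem_cons_of_mem a hb)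
    rw [List.reverse_cons, Data.tw_append, tw_eq_ev hl i hi]
    show lyHTab.act a (StabCert.ev 19 tab l i) = look 19 (tab.getD a 0) (StabCert.ev 19 tab l i)
    exact (look_act (hv a List.mem_cons_self) ((ev_lt hl hi).trans_eq n_eq.symm)).symm

theorem ev_perm_eq {v : List ℕ} (hv : OkW v) :
    Data.ev (Setup.perm lyHTab hTable.perm) v.reverse = rho (wordEl elK v) := by
  refine Equiv.ext fun i => Fin.ext ?_
  rw [Setup.ev_perm hTable.perm v.reverse (fun a ha => hv a (List.mem_reverse.1 ha)), rho_word hv,
    tw_eq_ev hv i (lt_of_lt_of_eq i.2 n_eq)]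

theorem okW_lexp {l : List ℕ} (h : cfg.okW (cfg.lexp l) = true) : OkW (cfg.lexp l) := okW_iff.1 h

theorem lexp_append (e l : List ℕ) : cfg.lexp (e ++ l) = cfg.lexp e ++ cfg.lexp l := by
  simp [Cfg.lexp]

theorem cover_spec {i : ℕ} (K : CoverCert i) : ∀ p < 19530, ∃ n l, n < facts.length ∧ (cfg.fact n).1 = i ∧
    OkW (cfg.fact n).2.1 ∧ cfg.lOK fixes.length i l = true ∧ OkW (cfg.lexp l) ∧
      StabCert.ev 19 tab (cfg.lexp l) (StabCert.ev 19 tab (winv (cfg.fact n).2.1) 0) = p := by
  intro p hp
  refine forest_induction hTable.perm K.forest (P := fun q => ∃ n l, n < facts.length ∧ (cfg.fact n).1 = i ∧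
    OkW (cfg.fact n).2.1 ∧ cfg.lOK fixes.length i l = true ∧ OkW (cfg.lexp l) ∧
      StabCert.ev 19 tab (cfg.lexp l) (StabCert.ev 19 tab (winv (cfg.fact n).2.1) 0) = q) ?_ ?_ p
    (hp.trans_eq n_eq.symm)
  · intro r hr
    obtain ⟨n, hn, rfl⟩ := List.mem_map.1 hr
    have h := List.all_eq_true.1 K.roots_ok n hn
    simp only [rootOK, Bool.and_eq_true, Nat.blt_eq, beq_iff_eq] at h
    exact ⟨n, [], h.1.1, h.1.2, okW_iff.1 h.2, rfl, fun a ha => absurd ha List.not_mem_nil, rfl⟩
  · rintro w hw q hq ⟨n, l, hn, hni, ha, h1, h2, rfl⟩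
    obtain ⟨e, he, rfl⟩ := List.mem_map.1 hw
    have hee := List.all_eq_true.1 K.exps_ok e he
    rw [Bool.and_eq_true] at hee
    refine ⟨n, e ++ l, hn, hni, ha, ?_, ?_, ?_⟩
    · rw [Cfg.lOK, List.all_append, Bool.and_eq_true]
      exact ⟨hee.1, h1⟩
    · rw [lexp_append]
      exact okW_append (okW_lexp hee.2) h2
    · rw [lexp_append, ev_append, tw_eq_ev (okW_lexp hee.2) _ (lt_of_lt_of_eq hq n_eq)]

/-- The orbit of a class under the subgroup. -/
def Orb (i : ℕ) : Set (Spor.Ly ⧸ lyH) := Set.range fun k : L => toLy k • pt i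

theorem orbit_finite_le {i : ℕ} (St : Subgroup L) (hSt : ∀ m ∈ St, toLy m • pt i = pt i) :
    (Orb i).Finite ∧ (Orb i).ncard ≤ St.index := by
  have := finite_L
  have hsub : Orb i ⊆ Set.range fun q : L ⧸ St => toLy q.out • pt i := by
    rintro _ ⟨k, rfl⟩
    refine ⟨(k : L ⧸ St), ?_⟩
    obtain ⟨m, hm⟩ := QuotientGroup.mk_out_eq_mul St k
    show toLy (k : L ⧸ St).out • pt i = toLy k • pt i
    rw [hm, map_mul, mul_smul]
    congr 1
    exact hSt _ m.2
  refine ⟨(Set.finite_range _).subset hsub, ?_⟩
  refine (Set.ncard_le_ncard hsub (Set.finite_range _)).trans ?_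
  rw [← Nat.card_coe_set_eq, Subgroup.index]
  exact Nat.card_le_card_of_surjective _ Set.rangeFactorization_surjective

theorem orbit_le {i : ℕ} (K : TowerCert i) : (Orb i).Finite ∧ (Orb i).ncard ≤ K.size := by
  have := finite_L
  set St : Subgroup L := (MulAction.stabilizer Spor.Ly (pt i)).comap toLy with hSt
  have hfix := holds.2
  have hP : ∀ O ∈ K.tower, ∀ w ∈ O.words, Data.ev (Setup.perm lyHTab hTable.perm) w ∈ St.map rho := by
    intro O hO w hw
    have hm : O.words ∈ K.exps.map expWords := K.words_ok ▸ List.mem_map.2 ⟨O, hO, rfl⟩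
    obtain ⟨es, hes, hese⟩ := List.mem_map.1 hm
    rw [← hese] at hw
    obtain ⟨e, he, rfl⟩ := List.mem_map.1 hw
    have hee := List.all_eq_true.1 (List.all_eq_true.1 K.exps_ok es hes) e he
    rw [Bool.and_eq_true] at hee
    rw [ev_perm_eq (okW_lexp hee.2)]
    refine Subgroup.mem_map_of_mem _ ?_
    show toLy (wordEl elK (cfg.lexp e)) • pt i = pt i
    rw [← wordEl_elL (okW_lexp hee.2)]
    exact HNPresented.lexp_fixes sound hfix e hee.1
  have hle := chainSize_mul_le hTable.perm K.tower [] K.chain (fun _ hb => absurd hb List.not_mem_nil)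
    (St.map rho) ⊥ hP bot_le (fun g hg _ _ j _ => by rw [Subgroup.mem_bot.1 hg]; rfl)
  rw [Subgroup.card_bot, Nat.mul_one,
    ← Nat.card_congr (St.equivMapOfInjective rho rho_injective).toEquiv] at hle
  have hidx : St.index ≤ K.size := by
    refine Nat.le_of_mul_le_mul_right ?_ (show 0 < Setup.chainSize K.tower from ?_)
    · rw [K.size_ok, ← card_L.1, ← St.card_mul_index, Nat.mul_comm (Nat.card St)]
      exact Nat.mul_le_mul_left _ hle
    · exact Nat.pos_of_ne_zero fun h0 => by
        have := K.size_ok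
        rw [h0, Nat.mul_zero] at this
        exact absurd this (by decide)
  obtain ⟨h1, h2⟩ := orbit_finite_le St fun m hm => hm
  exact ⟨h1, h2.trans hidx⟩

/-- The first class: its stabiliser contains the stabiliser of the point `0`. -/
theorem orbit_one_le : (Orb 1).Finite ∧ (Orb 1).ncard ≤ 19530 := by
  have h0 := holds.1 0 (show 0 < facts.length by decide)
  change zz • wordEl elL [] • pt 0 = wordEl elL [] • pt 1 at h0
  rw [wordEl_nil, one_smul, one_smul, pt_zero] at h0
  have hle : lyHSetup.closureOf lyHs ≤ (MulAction.stabilizer Spor.Ly (pt 1)).comap toLy := by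
    rw [Setup.closureOf, Subgroup.closure_le]
    rintro _ ⟨h, hh, rfl⟩
    show toLy (PresentedGroup.mk lyHSetup.rels h) • pt 1 = pt 1
    have hm : (lyHSetup.wl lyHTab h).reverse ∈ (List.range 8).map fun j => ph.getD (2 * j) [] := by
      rw [← hs_words]; exact List.mem_map.2 ⟨h, hh, rfl⟩
    obtain ⟨j, hj, hje⟩ := List.mem_map.1 hm
    rw [Setup.mk_eq_ev hTable.gens hTable.letters, ev_eq_wordEl, ← hje]
    have hj' := List.mem_range.1 hj
    have hS : OkW (sw.getD (2 * j) []) := fun a ha => by
      simpa using List.all_eq_true.1 (List.all_eq_true.1 sw_okW j hj) a ha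
    have hP : OkW (ph.getD (2 * j) []) := by
      intro a ha
      interval_cases j <;> simp [ph] at ha <;> omega
    rw [← wordEl_elL hP, ← h0, ← mul_smul, ← twist (2 * j) (show 2 * j < 16 by omega), mul_smul,
      wordEl_elL hS, smul_base]
  obtain ⟨h1, h2⟩ := orbit_finite_le (lyHSetup.closureOf lyHs) hle
  exact ⟨h1, h2.trans_eq (hTable.index.trans n_eq)⟩

end Cfsg.Agent.Lyons
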