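import Cfsg.Agent.Lib.HNPresented.Engine
import Cfsg.Agent.Lib.CosetEnum.Pack

/-!
The derivation for the cosets of the subgroup generated by `a, b, c, d` (generated).

* `facts`, `fixes`, `items`, `sw`, `ph`, `cycles`, `cycleCert`
-/

set_option autoImplicit false
set_option maxRecDepth 100000
set_option Elab.async false

namespace Cfsg.Agent.Lyons

open Cfsg.Agent.CosetEnum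

open Cfsg.Agent.HNPresented in
/-- The equations. -/
def facts : List Fact := [
  (0, [], 1, []),
  (1, [14, 17, 14, 14, 16, 6, 5, 16, 15, 5, 3, 14], 2, []),
  (1, [9, 4, 2, 17, 1, 12, 14, 5, 0, 16, 2, 1], 3, []),
  (2, [15, 2, 13, 0, 15, 0, 12, 12, 0, 2, 2, 2], 4, []),
  (4, [], 2, [0, 0, 15, 2, 13, 0, 15, 0, 12, 12, 0, 2, 2, 2]),
  (3, [1, 1, 6, 2, 1, 3, 5], 1, [9, 6, 6, 5, 16, 3, 3, 0, 2, 2, 1, 3, 3, 3, 0, 2, 0, 2, 0, 3, 11, 0, 0, 4, 9, 5, 0, 0, 5, 10]),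
  (2, [3, 3, 0, 2, 2, 2, 2, 1, 3, 3, 4, 2, 1, 3, 11, 6, 2, 2, 1, 3, 3], 3, [3, 3, 3, 0, 2, 6, 1, 3, 1, 2, 2, 2, 0, 3, 8, 5, 5, 0, 0, 5, 0, 0, 8, 5]),
  (2, [1, 1, 12, 6], 1, [11, 17, 12, 8, 16, 3, 1, 2, 2, 2, 0, 0, 3, 6, 11, 0, 0, 11, 4, 8, 5]),
  (2, [3, 7, 2, 1, 3, 6, 8, 5, 1, 1, 10, 4, 9], 2, [3, 6, 2, 0, 3, 7, 1, 1, 4, 8, 5, 5, 0, 0, 5, 10, 4, 9]),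
  (2, [16, 4, 3, 0, 4, 0, 16, 4, 1, 1, 9, 10, 2, 0, 3, 6], 3, [6, 6, 14, 3, 3, 1, 2, 1, 2, 2, 2, 0, 0, 3, 1, 1, 10, 5, 0, 0, 4, 9, 4, 9]),
  (2, [6, 14, 3, 0, 2, 1, 3, 1, 2, 2, 6, 3, 3, 0, 2, 1, 10, 5, 0, 0, 4, 9], 2, [9, 7, 2, 0, 14, 3, 1, 2, 1, 2, 2, 7, 11, 0, 0, 5, 10, 5, 0, 0, 4, 9]),
  (3, [4, 0, 14, 3, 1, 2, 1, 2, 2, 2, 0, 3, 6, 2, 0, 3, 8, 5, 1, 1, 4, 11, 4, 8, 5, 8, 5], 2, [0, 0, 5, 17, 1, 5, 1, 2, 5, 17, 1, 1, 12, 6]),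
  (2, [1, 7, 14, 0, 3, 6, 6, 11, 4, 8, 5, 5, 0, 0, 4, 9, 4, 9], 2, [1, 6, 2, 0, 14, 3, 1, 2, 1, 2, 2, 7, 1, 3, 1, 2, 2, 1, 3, 1, 2, 2, 6, 8, 5, 5, 0, 0, 4, 9]),
  (1, [1, 1, 8, 7, 2, 2, 1, 3, 3, 8], 0, [12, 11, 7, 16, 6, 14, 3, 3, 0, 3, 0, 2, 0, 5, 0, 0, 5, 10, 5, 10, 5, 0, 0]),
  (2, [9, 16, 14, 9, 16, 3, 3, 3, 0, 2, 6, 3, 3, 0, 2, 0, 7, 1, 1, 10, 5, 0, 0, 4, 9, 4, 9], 1, [17, 3, 3, 1, 2, 2, 0, 7, 8, 5, 8, 5, 5, 10, 5, 10]),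
  (1, [0, 0, 3, 3, 0, 2, 2, 0, 9, 2, 2, 0, 3, 0, 3, 4], 1, [3, 3, 1, 2, 2, 1, 3, 1, 2, 2, 7, 1, 1, 4, 11, 4, 11, 4]),
  (1, [5, 17, 1, 5, 1, 2, 5, 17, 2, 2, 1, 3, 0, 3, 4, 8, 2, 2, 0, 3, 3, 0], 1, [4, 0, 14, 3, 3, 0, 2, 6, 2, 0, 3, 6, 1, 1, 4, 8, 5, 1, 1, 10, 4, 9]),
  (2, [0, 3, 0, 2, 2, 0, 5, 0, 2, 1, 16, 4, 0, 5, 3, 5, 1, 16, 4, 9, 1, 2, 0, 3], 2, [10, 14, 2, 0, 14, 3, 1, 2, 2, 0, 2, 1, 3, 6, 6, 11, 4, 1, 1, 4, 11, 0, 0, 4, 9]),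
  (3, [3, 3, 0, 2, 2, 0, 12, 9, 2, 1, 3, 9], 2, [9, 11, 6, 16, 3, 1, 2, 1, 2, 2, 2, 0, 3, 6, 1, 3, 1, 2, 2, 4, 9, 5, 0, 0, 5, 0, 0, 4, 9]),
  (2, [17, 0, 14, 3, 1, 2, 1, 2, 2, 6, 6, 11, 4, 11, 0, 0, 11, 4], 3, [5, 9, 16, 10, 16, 3, 1, 2, 2, 7, 1, 3, 1, 2, 2, 6, 1, 1, 4, 8, 5, 8, 5, 5, 10]),
  (4, [5, 9, 16, 10, 16, 1, 3, 1, 2, 2, 6, 1, 1, 4, 8, 5, 5, 0, 0, 5, 10, 4, 9], 2, [4, 14, 0, 11, 16, 3, 3, 3, 0, 3, 0, 2, 0, 6, 8, 5, 5, 0, 0, 8, 5]),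
  (3, [6, 2, 14, 1, 14, 3, 1, 2, 1, 2, 2, 2, 1, 3, 1, 3, 1, 2, 2, 2, 0, 3, 6, 8, 5, 1, 1, 4, 11, 4, 11, 4], 4, [2, 7, 1, 14, 3, 3, 0, 2, 0, 6, 2, 0, 3, 11, 0, 0, 8, 5, 8, 5]),
  (3, [13, 6, 16, 5, 14, 1, 3, 1, 2, 2, 6, 3, 3, 0, 2, 0, 11, 4, 11, 4, 8, 5, 1, 1, 4], 4, [16, 4, 3, 0, 4, 0, 16, 4, 0, 7, 7, 5, 10, 5, 10, 5, 0, 0, 5, 10]),
  (2, [0, 9, 5, 6, 16, 1, 2, 2, 0, 2, 1, 3, 6, 8, 5, 1, 1, 4, 8, 5, 5, 10], 4, [0, 0, 2, 0, 3, 1, 3, 3, 1, 3, 4, 2, 2, 4, 2, 16, 4, 3, 3, 16, 4, 2, 4]),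
  (4, [9, 5, 16, 10, 16, 3, 0, 2, 7, 2, 1, 3, 5, 0, 0, 5, 10, 5, 0, 0, 5, 10], 2, [14, 8, 10, 8, 16, 1, 3, 1, 2, 2, 6, 6, 5, 10, 4, 9, 5, 0, 0, 11, 4]),
  (2, [16, 8, 14, 11, 16, 3, 1, 2, 1, 2, 2, 2, 1, 3, 5, 0, 0, 5, 0, 0, 8, 5, 5, 0, 0], 4, [0, 8, 16, 14, 16, 3, 1, 2, 1, 2, 2, 6, 6, 2, 0, 3, 6, 5, 0, 0, 8, 5, 5, 10, 1, 1, 4]),
  (2, [6, 0, 11, 7, 16, 3, 3, 1, 2, 2, 7, 2, 0, 3, 6, 5, 10, 5, 0, 0, 8, 5, 5, 0, 0], 4, [17, 3, 0, 7, 7, 5, 0, 0, 11, 0, 0, 5, 10]),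
  (4, [2, 1, 7, 14, 3, 3, 3, 0, 2, 1, 3, 1, 2, 2, 11, 4, 8, 5, 5, 0, 0, 8, 5], 3, [10, 5, 16, 3, 0, 3, 5, 0, 0, 4, 9, 1, 1, 10]),
  (4, [2, 7, 1, 14, 3, 3, 0, 2, 0, 6, 2, 0, 3, 11, 0, 0, 8, 5, 8, 5], 3, [8, 6, 6, 17, 14, 0, 3, 7, 5, 0, 0]),
  (4, [17, 14, 11, 16, 14, 3, 3, 0, 2, 6, 1, 3, 1, 2, 2, 7, 5, 0, 0, 5, 0, 0, 11, 4, 8, 5], 1, [1, 14, 12, 11, 16, 1, 2, 2, 1, 3, 1, 2, 2, 7, 5, 0, 0, 11, 4]),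
  (2, [14, 12, 5, 16, 0, 6, 2, 0, 3, 4, 9, 5, 0, 0, 5, 0, 0, 5, 10], 4, [10, 0, 13, 10, 16, 3, 0, 2, 0, 3, 6, 11, 4, 4, 9, 1, 1, 4, 4, 9]),
  (3, [8, 6, 4, 4, 16, 3, 3, 0, 2, 2, 0, 0, 3, 7, 5, 10, 5, 0, 0, 5, 0, 0, 4, 9], 4, [11, 7, 4, 7, 16, 3, 1, 2, 2, 0, 2, 0, 3, 6, 6, 5, 0, 0, 5, 10, 5, 0, 0, 4, 9]),
  (4, [17, 3, 8, 16, 3, 3, 3, 0, 2, 0, 6, 1, 3, 1, 2, 2, 1, 1, 10], 4, [8, 8, 7, 16, 3, 7, 2, 1, 1, 3, 11, 4, 11, 4, 4, 9, 4, 9]),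
  (2, [12, 0, 5, 16, 3, 3, 3, 0, 2, 0, 2, 0, 3, 4, 9, 1, 1, 4, 8, 5, 5, 10], 2, [3, 3, 7, 4, 16, 3, 3, 0, 2, 1, 3, 1, 2, 2, 1, 3, 1, 2, 2, 7, 5, 0, 0, 5, 10, 5, 10, 4, 9, 4, 9]),
  (4, [13, 16, 14, 7, 4, 16, 3, 1, 2, 1, 2, 2, 7, 1, 3, 1, 2, 2, 7, 5, 0, 0, 5, 0, 0, 5, 10, 5, 0, 0, 4, 9], 4, [7, 17, 9, 10, 16, 3, 1, 2, 1, 2, 2, 7, 2, 0, 3, 6, 8, 5, 5, 0, 0, 5, 0, 0, 4, 9]),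
  (2, [5, 9, 16, 10, 16, 3, 1, 2, 2, 1, 3, 1, 2, 2, 2, 1, 3, 6, 5, 10, 5, 0, 0, 8, 5, 5, 0, 0], 2, [9, 10, 7, 7, 16, 2, 7, 3, 3, 0, 2, 0, 2, 0, 3, 3, 3, 0, 2, 0, 11, 4, 11, 4, 8, 5, 8, 5]),
  (4, [16, 1, 3, 3, 3, 0, 2, 0, 7, 11, 4, 1, 1, 4, 4, 9, 4, 9], 2, [11, 17, 7, 14, 16, 3, 0, 3, 0, 2, 0, 3, 3, 0, 2, 0, 6, 6, 5, 0, 0, 11, 4, 8, 5, 5, 0, 0, 4, 9]),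
  (4, [7, 16, 6, 16, 14, 3, 1, 2, 1, 2, 2, 2, 0, 3, 6, 6, 4, 9, 5, 0, 0, 5, 10, 5, 0, 0], 3, [3, 3, 1, 2, 2, 8, 6, 4, 4, 16, 3, 3, 0, 2, 2, 0, 0, 3, 7, 11, 4, 8, 5, 5, 0, 0, 8, 5]),
  (4, [1, 11, 8, 5, 16, 3, 1, 2, 2, 2, 0, 3, 7, 3, 3, 0, 2, 0, 6, 5, 0, 0, 5, 0, 0, 11, 4], 4, [12, 17, 10, 2, 10, 16, 3, 3, 0, 2, 2, 0, 0, 3, 6, 5, 0, 0, 5, 0, 0, 11, 4, 11, 4]),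
  (2, [9, 14, 12, 10, 16, 3, 1, 2, 1, 2, 2, 6, 2, 1, 1, 3, 1, 1, 4, 4, 9, 1, 1, 4, 11, 4], 2, [1, 12, 16, 3, 3, 0, 2, 1, 3, 1, 2, 2, 6, 1, 1, 4, 11, 0, 0]),
  (3, [4, 0, 14, 3, 1, 2, 2, 2, 1, 3, 6, 1, 3, 1, 2, 2, 7, 1, 1, 10, 5, 10, 5, 0, 0], 4, [6, 14, 13, 17, 1, 14, 3, 3, 0, 2, 7, 2, 1, 3, 3, 3, 0, 2, 0, 4, 9, 4, 9, 5, 0, 0, 4, 9]),
  (2, [16, 6, 14, 4, 16, 6, 3, 3, 0, 2, 0, 6, 11, 4, 1, 1, 4, 11, 0, 0, 4, 9], 2, [0, 13, 10, 6, 16, 3, 3, 1, 2, 1, 2, 2, 1, 3, 1, 2, 2, 2, 1, 3, 6, 2, 0, 3, 5, 10, 5, 0, 0, 5, 10, 4, 9]),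
  (3, [4, 16, 2, 0, 14, 3, 1, 2, 2, 2, 0, 3, 3, 3, 0, 2, 0, 6, 5, 0, 0, 8, 5, 1, 1, 4], 2, [16, 14, 0, 6, 3, 3, 0, 2, 0, 5, 0, 0, 11, 0, 0, 8, 5]),
  (2, [0, 12, 16, 3, 0, 2, 7, 7, 1, 1, 4, 11, 4, 8, 5], 2, [10, 14, 5, 8, 16, 3, 3, 0, 3, 0, 2, 0, 5, 10, 1, 1, 4, 8, 5, 5, 10]),
  (2, [16, 7, 16, 1, 14, 3, 1, 2, 1, 2, 2, 2, 0, 3, 6, 3, 3, 0, 2, 0, 4, 9, 1, 1, 4, 11, 4, 1, 1, 4], 2, [10, 4, 7, 4, 16, 3, 1, 3, 1, 2, 2, 1, 3, 1, 2, 2, 6, 5, 10, 4, 9]),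
  (2, [2, 10, 10, 7, 16, 6, 3, 3, 0, 2, 0, 6, 6, 4, 9, 4, 9, 1, 1, 4, 4, 9, 4, 9], 2, [16, 14, 11, 5, 16, 3, 1, 2, 1, 2, 2, 2, 1, 1, 3, 6, 5, 0, 0, 11, 4]),
  (3, [17, 1, 1, 8, 1, 6, 16, 14, 3, 1, 2, 2, 0, 7, 2, 1, 3, 6, 5, 0, 0, 4, 9, 5, 0, 0, 5, 10], 3, [5, 6, 16, 14, 3, 1, 2, 2, 1, 3, 1, 2, 2, 2, 0, 3, 6, 6, 8, 5, 5, 10, 1, 1, 4]),
  (2, [0, 14, 7, 16, 14, 3, 3, 0, 2, 6, 3, 3, 0, 2, 0, 6, 6, 8, 5, 5, 10, 1, 1, 4], 2, [10, 16, 14, 10, 16, 3, 1, 2, 2, 7, 2, 0, 3, 7, 8, 5, 5, 10, 5, 0, 0]),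
  (4, [14, 5, 11, 4, 16, 3, 0, 2, 0, 2, 0, 3, 7, 5, 0, 0, 8, 5, 1, 1, 4, 8, 5], 2, [17, 3, 3, 0, 2, 1, 3, 1, 2, 2, 6, 6, 11, 4, 1, 1, 4, 8, 5, 1, 1, 4]),
  (2, [5, 17, 1, 5, 1, 2, 5, 17, 5, 10, 2, 2, 0, 3, 3, 0], 2, [14, 6, 3, 6, 16, 1, 2, 1, 2, 2, 7, 3, 3, 0, 2, 0, 6, 6, 5, 0, 0, 11, 4, 8, 5, 5, 0, 0, 4, 9]),
  (2, [12, 11, 11, 16, 3, 3, 1, 2, 2, 2, 1, 3, 3, 3, 0, 2, 1, 4, 8, 5, 8, 5], 4, [0, 10, 17, 11, 4, 16, 3, 1, 2, 2, 1, 3, 1, 2, 2, 2, 1, 3, 11, 0, 0, 11, 4, 8, 5]),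
  (4, [0, 14, 17, 6, 16, 3, 0, 3, 0, 2, 0, 8, 5, 5, 0, 0, 5, 10, 4, 9, 4, 9], 2, [6, 6, 1, 6, 16, 3, 0, 2, 7, 1, 3, 1, 2, 2, 1, 3, 1, 2, 2, 6, 11, 4, 11, 4, 4, 9, 5, 0, 0]),
  (4, [6, 14, 13, 17, 1, 14, 3, 3, 0, 2, 7, 2, 1, 3, 3, 3, 0, 2, 0, 4, 9, 4, 9, 5, 0, 0, 4, 9], 3, [0, 0, 9, 9, 7, 16, 6, 14, 3, 1, 2, 2, 2, 1, 1, 3, 4, 9, 5, 0, 0, 11, 0, 0]),
  (2, [13, 8, 16, 3, 3, 1, 2, 2, 1, 3, 1, 2, 2, 2, 1, 3, 7, 5, 0, 0, 5, 10, 5, 0, 0, 5, 10], 2, [5, 16, 5, 0, 14, 3, 1, 2, 1, 2, 2, 2, 1, 3, 3, 3, 0, 2, 1, 4, 11, 0, 0, 5, 10]),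
  (1, [1, 7, 9, 16, 14, 3, 1, 2, 2, 6, 2, 1, 1, 3, 1, 1, 4, 11, 0, 0, 4, 9], 4, [6, 4, 14, 16, 3, 0, 2, 7, 1, 3, 1, 2, 2, 1, 3, 1, 2, 2, 7, 11, 4, 8, 5, 8, 5]),
  (2, [0, 3, 6, 16, 3, 0, 7, 5, 10, 5, 0, 0, 5, 0, 0, 4, 9, 4, 9], 2, [14, 4, 9, 16, 1, 2, 1, 2, 2, 1, 3, 1, 2, 2, 2, 1, 3, 6, 5, 0, 0, 5, 10, 5, 10, 5, 0, 0]),
  (2, [3, 3, 0, 2, 2, 7, 8, 5, 5, 16, 3, 3, 3, 0, 2, 6, 3, 3, 0, 2, 0, 7, 4, 9, 1, 1, 4, 11, 4], 4, [13, 7, 7, 17, 14, 3, 3, 0, 2, 7, 3, 3, 0, 2, 0, 6, 6, 5, 0, 0, 4, 9, 1, 1, 4, 4, 9]),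
  (3, [11, 0, 5, 16, 2, 0, 2, 1, 3, 7, 5, 10, 4, 9, 5, 0, 0, 11, 4], 3, [1, 6, 3, 8, 16, 2, 1, 3, 1, 2, 2, 2, 1, 3, 8, 5, 1, 1, 4, 11, 4, 1, 1, 4]),
  (2, [2, 0, 8, 16, 3, 3, 1, 2, 1, 2, 2, 1, 3, 1, 2, 2, 6, 2, 0, 3, 6, 5, 0, 0, 5, 0, 0, 11, 4, 4, 9], 2, [11, 11, 3, 9, 16, 3, 3, 1, 2, 1, 2, 2, 6, 3, 3, 0, 2, 0, 6, 6, 5, 10, 1, 1, 4, 4, 9]),
  (4, [5, 0, 4, 16, 3, 0, 3, 0, 2, 0, 2, 1, 3, 6, 6, 8, 5, 8, 5, 5, 10, 5, 10], 4, [17, 13, 5, 6, 16, 2, 7, 2, 1, 3, 3, 3, 0, 2, 0, 11, 4, 4, 9, 4, 9]),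
  (4, [13, 1, 7, 5, 16, 3, 0, 2, 7, 1, 3, 1, 2, 2, 5, 0, 0, 11, 4, 11, 4], 2, [0, 0, 2, 16, 1, 8, 8, 14, 9, 13, 1, 17, 1, 12]),
  (2, [1, 6, 3, 7, 16, 3, 0, 2, 2, 1, 1, 3, 6, 11, 4, 1, 1, 4, 4, 9, 4, 9], 4, [7, 7, 5, 14, 3, 3, 0, 2, 2, 0, 0, 3, 7, 8, 5, 5, 0, 0, 4, 9]),
  (4, [13, 9, 7, 7, 5, 14, 3, 3, 0, 2, 2, 0, 0, 3, 7, 8, 5, 5, 0, 0, 4, 9], 2, [10, 6, 4, 10, 16, 3, 3, 0, 2, 7, 2, 1, 3, 11, 4, 11, 0, 0, 5, 0, 0]),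
  (2, [13, 14, 3, 6, 16, 3, 1, 2, 1, 2, 2, 6, 1, 3, 1, 2, 2, 7, 4, 9, 5, 0, 0, 8, 5, 8, 5], 2, [9, 14, 12, 10, 16, 3, 1, 2, 2, 0, 7, 8, 5, 5, 10, 5, 10]),
  (2, [4, 16, 12, 6, 16, 3, 3, 1, 2, 2, 2, 0, 0, 3, 11, 4, 11, 4], 2, [16, 14, 11, 6, 16, 3, 1, 3, 1, 2, 2, 5, 10, 1, 1, 4, 11, 4]),
  (4, [5, 17, 13, 10, 16, 3, 0, 3, 0, 2, 0, 7, 2, 0, 3, 5, 0, 0, 5, 10, 5, 0, 0, 8, 5], 4, [9, 2, 11, 5, 16, 2, 0, 3, 3, 3, 0, 2, 0, 6, 6, 5, 10, 1, 1, 10, 4, 9]),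
  (3, [16, 13, 14, 16, 2, 0, 2, 0, 3, 7, 7, 4, 9, 1, 1, 4, 4, 9, 4, 9], 3, [10, 14, 4, 16, 3, 0, 2, 0, 3, 6, 8, 5, 1, 1, 10]),
  (4, [16, 13, 5, 6, 16, 2, 1, 2, 2, 2, 0, 3, 6, 3, 3, 0, 2, 1, 4, 8, 5, 5, 10, 5, 0, 0], 2, [0, 0, 2, 16, 9, 15, 16, 6, 5, 6, 9, 9])]

open Cfsg.Agent.HNPresented in
/-- The fixing elements. -/
def fixes : List Fixer := [
  (0, [0]),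
  (0, [2]),
  (0, [4]),
  (0, [6]),
  (0, [8]),
  (0, [10]),
  (0, [12]),
  (0, [14]),
  (0, [16]),
  (1, [2, 2, 0, 3, 3, 8, 1, 2, 1, 2, 0, 3, 3, 0, 4]),
  (1, [2, 2, 1, 3, 3, 11, 2, 1, 2, 1, 3, 3, 1, 2, 0, 3, 8]),
  (2, [1, 9, 2, 1, 3, 1, 8, 4]),
  (2, [1, 9, 6, 2, 1, 2, 1, 3, 1, 3, 0]),
  (3, [2, 2, 1, 3, 0, 3, 11, 1, 7, 2, 0, 3, 5]),
  (3, [5, 5, 2, 2, 1, 3, 3, 1, 4, 4]),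
  (3, [1, 2, 0, 2, 0, 3, 0, 3, 0, 4]),
  (2, [16, 7, 14, 16, 3, 1, 2, 1, 2, 2, 2, 1, 3, 6, 2, 0, 3, 1, 1, 4, 8, 5, 8, 5, 5, 10, 5, 10]),
  (3, [1, 11, 14, 16, 3, 3, 1, 2, 2, 2, 1, 3, 7, 7, 5, 0, 0, 11, 0, 0, 5, 0, 0]),
  (4, [14, 5, 11, 4, 16, 3, 0, 2, 0, 2, 1, 3, 6, 1, 1, 10, 5, 0, 0, 5, 0, 0, 4, 9]),
  (4, [7, 4, 16, 4, 16, 3, 1, 2, 1, 2, 2, 6, 2, 0, 3, 8, 5, 1, 1, 4, 4, 9, 5, 0, 0]),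
  (4, [4, 10, 2, 0, 5, 16, 3, 1, 2, 2, 2, 0, 3, 3, 3, 0, 2, 0, 6, 8, 5, 8, 5, 1, 1, 4, 11, 4]),
  (4, [2, 6, 14, 16, 2, 6, 1, 3, 1, 2, 2, 5, 0, 0, 4, 9, 1, 1, 4, 4, 9])]

/-- The twisted words. -/
def sw : List (List ℕ) := [
  [1, 3, 1, 2, 5, 3, 0, 5, 2, 0],
  [1, 3, 4, 1, 2, 4, 3, 0, 2, 0],
  [3, 3, 0, 4, 1, 2, 4, 2],
  [3, 5, 3, 0, 5, 1, 2, 2],
  [1, 3, 1, 4, 0, 2, 0],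
  [1, 3, 1, 5, 0, 2, 0],
  [3, 1, 2, 4, 3, 0, 2],
  [3, 1, 2, 5, 3, 0, 2],
  [2, 2, 1, 3, 4, 2, 0, 4, 3, 3, 5],
  [4, 2, 2, 5, 1, 3, 5, 2, 0, 3, 3],
  [1, 1, 1],
  [0, 0, 0],
  [2, 1, 3, 1, 1],
  [0, 0, 2, 0, 3],
  [0, 2, 2, 0, 3, 3, 1],
  [0, 2, 2, 1, 3, 3, 1]]

/-- The twisted letters. -/
def ph : List (List ℕ) := [
  [4],
  [5],
  [6],
  [7],
  [8],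
  [9],
  [10],
  [11],
  [12],
  [13],
  [0],
  [1],
  [2, 0, 3],
  [2, 1, 3],
  [2, 2, 0, 3, 3],
  [2, 2, 1, 3, 3]]

open Cfsg.Agent.HNPresented in
/-- The derivation. -/
def items : List Item := [
  .stab 0 [14, 4, 11, 13, 14, 10, 0] [3, 17, 5, 11, 16, 5, 10, 10, 7, 3, 7, 16, 2],
  .stab 0 [15, 7, 13, 15, 11, 12, 4] [2, 17, 5, 5, 11, 17, 9, 10, 7, 9, 7, 16],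
  .stab 1 [11, 5, 13, 11, 4, 0] [18, 18, 21, 21, 18, 20, 20, 18, 18, 21, 19, 19, 19, 21, 21, 19, 20],
  .stab 1 [11, 5, 2, 13, 15, 13, 10] [19, 21, 21, 18, 21, 19, 21, 19, 19, 19, 20, 20, 20, 18, 21, 21, 18, 21, 18],
  .stab 2 [15, 12, 7, 11, 3, 12, 1] [21, 21, 18, 20, 19, 19, 21, 21, 21, 21, 18, 18, 18, 21],
  .stab 2 [1, 1, 15, 11, 0, 0] [18, 21, 19, 19, 21, 21, 18, 20, 20, 19, 20, 18, 18, 18],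
  .stab 2 [11, 12, 14, 12, 10, 0] [19, 20, 20, 20, 18, 21, 21, 18, 18, 20, 19, 20, 18, 21, 18],
  .edge 0 2 [0, 0, 15, 2, 13, 0, 15, 0, 12, 12, 0, 2, 2, 2] [(3, [], [], [])],
  .edge 1 1 [9, 6, 6, 5, 16, 3, 3, 0, 2, 2, 1, 3, 3, 3, 0, 2, 0, 2, 0, 3, 11, 0, 0, 4, 9, 5, 0, 0, 5, 10] [(2, [20], [2, 13, 1], [6, 2, 1, 3, 5])],
  .edge 4 3 [3, 3, 3, 0, 2, 6, 1, 3, 1, 2, 2, 2, 0, 3, 8, 5, 5, 0, 0, 5, 0, 0, 8, 5] [(5, [], [11, 0, 13, 11, 6, 13], [12, 0, 11, 7, 16, 3, 3, 0, 2, 7, 2, 0, 3, 6, 5, 10, 1, 1, 10]), (1, [18, 20, 20, 20, 19, 21, 19, 19, 19], [15, 0, 13, 7, 2, 15], [2, 2, 1, 3, 3, 4, 2, 1, 3, 11, 6, 2, 2, 1, 3, 3])],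
  .edge 1 1 [11, 17, 12, 8, 16, 3, 1, 2, 2, 2, 0, 0, 3, 6, 11, 0, 0, 11, 4, 8, 5] [(1, [19], [8, 2], [12, 6])],
  .edge 7 2 [3, 6, 2, 0, 3, 7, 1, 1, 4, 8, 5, 5, 0, 0, 5, 10, 4, 9] [(7, [], [2, 14, 7, 10, 12, 10, 0], [16, 14, 10, 9, 16, 1, 3, 1, 2, 2, 6, 5, 0, 0, 4, 9]), (1, [20, 18, 21, 18, 18, 18, 20, 20], [14, 4, 11, 13, 11, 2, 0], [3, 3, 0, 2, 2, 0, 3, 7, 7, 11, 4])],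
  .edge 13 3 [6, 6, 14, 3, 3, 1, 2, 1, 2, 2, 2, 0, 0, 3, 1, 1, 10, 5, 0, 0, 4, 9, 4, 9] [(5, [], [7, 1, 2, 2], [7, 14, 12, 14, 4, 16, 3, 3, 0, 2, 2, 1, 3, 3, 3, 0, 2, 0, 2, 0, 3, 11, 0, 0, 4, 9, 5, 0, 0, 5, 10]), (1, [20, 20, 20, 20, 18, 18, 18, 21, 18, 18], [5, 6, 12, 2], [9, 10, 2, 0, 3, 6])],
  .edge 8 2 [9, 7, 2, 0, 14, 3, 1, 2, 1, 2, 2, 7, 11, 0, 0, 5, 10, 5, 0, 0, 4, 9] [(7, [], [11, 13, 10, 4, 15, 4], [4, 16, 5, 10, 16, 2, 1, 3, 3, 3, 0, 2, 1, 4, 11, 4, 8, 5, 1, 1, 4]), (1, [18, 20, 18, 18, 18, 18, 20], [5, 13, 5, 15, 13], [9, 2, 1, 3, 9, 2, 2, 1, 3, 1, 3])],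
  .edge 11 2 [0, 0, 5, 17, 1, 5, 1, 2, 5, 17, 1, 1, 12, 6] [(7, [], [], [11, 17, 12, 8, 16, 3, 1, 2, 2, 2, 0, 0, 3, 6, 11, 0, 0, 11, 4, 8, 5]), (2, [18, 21, 21, 21, 19, 19], [12, 5, 15, 11, 3, 0], [2, 0, 3, 9, 2, 2, 1, 3, 3, 1, 7, 4])],
  .edge 6 2 [1, 6, 2, 0, 14, 3, 1, 2, 1, 2, 2, 7, 1, 3, 1, 2, 2, 1, 3, 1, 2, 2, 6, 8, 5, 5, 0, 0, 4, 9] [(10, [], [5, 12, 6, 5], [6, 4, 14, 7, 2, 0, 3, 6, 1, 1, 4, 8, 5, 1, 1, 10, 4, 9]), (10, [23], [13, 0, 14, 7, 1], [3, 1, 6, 14, 1, 2, 2, 7, 1, 3, 1, 2, 2, 7, 2, 0, 3, 5, 10, 1, 1, 10])],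
  .edge 1 0 [12, 11, 7, 16, 6, 14, 3, 3, 0, 3, 0, 2, 0, 5, 0, 0, 5, 10, 5, 10, 5, 0, 0] [(0, [16], [4, 3, 15, 4], [8, 7, 2, 2, 1, 3, 3, 8])],
  .edge 29 1 [17, 3, 3, 1, 2, 2, 0, 7, 8, 5, 8, 5, 5, 10, 5, 10] [(13, [], [10, 0, 6, 13, 11], [9, 9, 11, 7, 16, 3, 1, 2, 1, 2, 2, 7, 3, 3, 0, 2, 0, 5, 0, 0]), (0, [0, 14, 16, 3], [10, 1, 12, 3, 12], [0, 5, 2, 0, 3, 7, 2, 0, 3]), (1, [19, 21, 21, 18, 18, 21, 19, 19, 20, 20], [11, 13, 10, 1, 14, 12, 7], [1, 2, 1, 3, 0, 5, 2, 2, 0, 3, 0, 3, 11])],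
  .edge 5 1 [3, 3, 1, 2, 2, 1, 3, 1, 2, 2, 7, 1, 1, 4, 11, 4, 11, 4] [(13, [], [13], [9, 7, 2, 10, 16, 3, 1, 3, 1, 2, 2]), (0, [16, 3, 3], [10, 5, 14, 12, 0], [0, 9, 2, 2, 0, 3, 0, 3, 4])],
  .edge 10 1 [4, 0, 14, 3, 3, 0, 2, 6, 2, 0, 3, 6, 1, 1, 4, 8, 5, 1, 1, 10, 4, 9] [(13, [], [1], [9, 4, 1, 10, 16, 3, 1, 2, 2, 2, 1, 3, 3, 3, 0, 2, 0]), (0, [14, 6, 4, 16, 2], [15, 12, 0, 4, 14, 10], [2, 2, 1, 3, 0, 3, 4, 8, 2, 2, 0, 3, 3, 0])],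
  .edge 24 2 [10, 14, 2, 0, 14, 3, 1, 2, 2, 0, 2, 1, 3, 6, 6, 11, 4, 1, 1, 4, 11, 0, 0, 4, 9] [(7, [], [0, 13, 10, 0, 12, 1], [11, 17, 12, 8, 16, 3, 3, 0, 2, 0, 6, 3, 3, 0, 2, 0, 4, 9, 1, 1, 4]), (16, [20, 18, 20, 18, 20, 18], [15, 0, 15, 4, 13, 2], [5, 3, 0, 14, 3, 1, 2, 2, 0, 2, 0, 3, 5, 10, 5, 0, 0, 11, 4, 11, 4, 4, 9]), (1, [19, 21, 21, 21, 19, 20, 20], [0, 5, 11, 12], [4, 9, 1, 2, 0, 3])],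
  .edge 4 2 [9, 11, 6, 16, 3, 1, 2, 1, 2, 2, 2, 0, 3, 6, 1, 3, 1, 2, 2, 4, 9, 5, 0, 0, 5, 0, 0, 4, 9] [(14, [], [6, 0], [10, 4, 17, 3, 3, 1, 2, 2, 0, 7, 8, 5, 8, 5, 5, 10, 5, 10]), (2, [20, 18, 18, 21, 18, 20, 18, 18], [10, 8, 5, 13, 5], [0, 12, 9, 2, 1, 3, 9])],
  .stab 18 [1, 1, 12, 5] [26, 29, 31, 28, 27],
  .edge 15 3 [5, 9, 16, 10, 16, 3, 1, 2, 2, 7, 1, 3, 1, 2, 2, 6, 1, 1, 4, 8, 5, 8, 5, 5, 10] [(5, [], [13, 15, 11, 12, 6, 0, 2], [6, 6, 5, 16, 3, 1, 2, 2, 1, 3, 1, 2, 2, 11, 0, 0, 4, 9, 5, 0, 0, 5, 10]), (1, [20, 20, 18, 20, 18, 20, 19, 19], [11, 6, 13, 15, 3], [1, 10, 2, 1, 2, 1, 3, 3, 7]), (10, [23, 33, 33, 33, 22, 22, 22], [10, 6, 12, 10, 4, 14, 12, 0], [0, 14, 1, 2, 2, 1, 3, 1, 2, 2, 2,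 0, 3, 7, 7, 11, 4, 8, 5, 8, 5])],
  .close 25 3 [6, 17, 6, 8, 16, 3, 1, 2, 2, 2, 1, 3, 6, 1, 3, 1, 2, 2, 7, 1, 1, 4, 11, 0, 0, 5, 10] [(11, [31, 26, 26], [15, 6, 0], [2, 2, 1, 3, 3, 10, 4, 0, 0, 5, 17, 1, 5, 1, 2, 5, 17, 1, 1, 12, 6]), (12, [32, 32, 25, 32, 25], [15, 10, 7, 15], [2, 1, 7, 14, 3, 3, 1, 2, 2, 2, 0, 3, 1, 3, 1, 2, 2, 6, 8, 5, 5, 0, 0, 11, 0, 0]), (12, [33, 22, 32, 32, 24, 22], [10, 1, 15, 12, 4, 10], [6, 6, 2, 0, 14, 3, 1, 2, 1, 2, 2, 1, 3, 1, 2, 2, 1, 3, 1, 2, 2, 7, 1, 1, 4, 4, 9, 5, 0, 0, 4, 9, 4, 9])] (19, [24, 22, 32, 32, 32], [7, 13, 15, 12, 7, 11], [6, 14, 4, 8, 16, 2, 1, 3, 1, 2, 2, 7, 2, 0, 3, 5, 0, 0, 5, 0, 0, 5, 10, 4, 9]),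
  .edge 20 2 [4, 14, 0, 11, 16, 3, 3, 3, 0, 3, 0, 2, 0, 6, 8, 5, 5, 0, 0, 8, 5] [(7, [], [11, 3, 13, 14, 10, 5], [11, 1, 10, 6, 16, 1, 2, 2, 1, 3, 1, 2, 2, 6, 2, 1, 3, 5, 0, 0, 11, 4, 4, 9, 5, 0, 0]), (1, [19, 20, 20, 20, 19, 19, 19, 21, 18], [13, 11, 5, 12, 14, 12, 5, 10], [2, 1, 3, 1, 9, 2, 0, 2, 0, 3, 0, 3, 9, 0]), (3, [24, 32, 22, 32, 23], [15, 12, 6, 1, 11, 0], [2, 2, 1, 3, 0, 3, 10, 5, 1, 4])],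
  .edge 12 4 [2, 7, 1, 14, 3, 3, 0, 2, 0, 6, 2, 0, 3, 11, 0, 0, 8, 5, 8, 5] [(4, [], [11, 9, 6, 15, 2], [1, 13, 10, 2, 2, 1, 3, 3, 6, 0, 0, 15, 2, 13, 0, 15, 0, 12, 12, 0, 2, 2, 2]), (19, [33, 33, 25, 33, 25], [10, 6, 13, 14, 3, 13, 0], [7, 2, 7, 16, 14, 3, 3, 3, 0, 2, 2, 0, 3, 6, 6, 5, 0, 0, 5, 0, 0])],
  .stab 21 [11, 0, 13, 8, 14] [26, 34, 27, 35, 30, 28, 30, 34, 31, 34, 31],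
  .edge 8 4 [16, 4, 3, 0, 4, 0, 16, 4, 0, 7, 7, 5, 10, 5, 10, 5, 0, 0, 5, 10] [(4, [], [0, 5, 11, 5], [4, 9, 1, 9, 0, 0, 15, 2, 13, 0, 15, 0, 12, 12, 0, 2, 2, 2]), (9, [22, 22, 22], [11, 13, 11, 4, 2, 13], [14, 12, 17, 14, 3, 1, 2, 1, 2, 2, 1, 3, 1, 2, 2, 6, 2, 0, 3, 1, 1, 4, 8, 5, 5, 10, 1, 1, 4])],
  .stab 22 [3, 10, 4, 13, 1] [27, 35, 27, 31, 34, 34, 30, 34, 31, 35, 27, 35],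
  .close 20 4 [13, 9, 6, 16, 0, 3, 0, 2, 0, 6, 2, 0, 3, 5, 0, 0, 5, 0, 0] [(20, [36], [9, 7, 3], [6, 17, 10, 6, 16, 14, 3, 1, 2, 1, 2, 2, 2, 1, 3, 5, 10, 5, 0, 0, 8, 5]), (8, [23, 33, 33, 33], [4, 11, 12], [3, 1, 3, 1, 2, 2, 2, 0, 3, 7, 5, 10, 4, 9, 1, 1, 10]), (9, [24, 33, 24, 33], [13, 15, 0, 2, 5, 0], [1, 11, 3, 0, 14, 2, 0, 3, 7, 7, 11, 0, 0])] (21, [26, 34, 31, 28], [15, 10, 7, 15, 10, 7], [6, 2, 0, 14, 3, 1, 2, 2, 2, 1, 3, 6, 4, 9, 4, 9, 5, 0, 0, 11, 4]),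
  .edge 21 4 [0, 0, 2, 0, 3, 1, 3, 3, 1, 3, 4, 2, 2, 4, 2, 16, 4, 3, 3, 16, 4, 2, 4] [(4, [], [], [0, 0, 15, 2, 13, 0, 15, 0, 12, 12, 0, 2, 2, 2]), (10, [23, 33, 33, 25], [6, 10, 12, 14, 2, 12], [14, 16, 14, 3, 3, 1, 2, 1, 2, 2, 2, 0, 3, 1, 3, 1, 2, 2, 7, 4, 9, 1, 1, 4, 11, 4, 4, 9]), (10, [33, 25, 33, 24], [5, 14, 7, 12], [14, 5, 16, 14, 3, 3, 1, 2, 2, 2, 0, 3, 1, 3, 1, 2, 2, 7, 1, 1, 4, 8, 5, 1, 1, 10])],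
  .stab 23 [5, 14, 5, 10, 1] [23, 33, 22, 32, 32, 32, 24, 33, 33, 33, 25],
  .edge 10 2 [14, 8, 10, 8, 16, 1, 3, 1, 2, 2, 6, 6, 5, 10, 4, 9, 5, 0, 0, 11, 4] [(9, [24], [9, 13, 7, 3], [14, 10, 16, 14, 2, 0, 3, 3, 3, 0, 2, 0, 2, 0, 3, 6, 11, 4, 4, 9, 4, 9, 1, 1, 4]), (21, [34, 26, 26, 28], [11, 13, 10, 4, 14, 4], [14, 5, 16, 14, 6, 6, 3, 3, 0, 2, 0, 6, 5, 10, 4, 9, 5, 0, 0, 11, 4])],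
  .edge 27 4 [0, 8, 16, 14, 16, 3, 1, 2, 1, 2, 2, 6, 6, 2, 0, 3, 6, 5, 0, 0, 8, 5, 5, 10, 1, 1, 4] [(24, [40], [4, 11, 8, 4, 1], [10, 8, 16, 14, 3, 1, 2, 1, 2, 2, 7, 3, 3, 0, 2, 0, 7, 5, 0, 0, 5, 10, 5, 0, 0]), (3, [32, 23, 33, 33, 23], [14, 3, 5, 11, 12, 2], [2, 2, 0, 3, 3, 7, 9, 1, 2, 0, 3, 6]), (4, [42, 40, 38, 37, 41], [10, 6, 4, 13, 11, 2], [0, 10, 8, 2, 1, 3, 1, 6, 0, 0, 15, 2, 13, 0, 15, 0, 12, 12, 0, 2, 2, 2])],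
  .edge 29 4 [17, 3, 0, 7, 7, 5, 0, 0, 11, 0, 0, 5, 10] [(4, [], [7, 10, 2], [11, 0, 6, 0, 0, 15, 2, 13, 0, 15, 0, 12, 12, 0, 2, 2, 2]), (9, [22, 33, 33, 23, 23], [1, 3, 4], [6, 14, 3, 3, 1, 2, 1, 2, 2, 2, 1, 3, 6, 2, 0, 3, 11, 0, 0, 5, 10, 4, 9]), (11, [31, 26, 34, 31, 34], [13, 7, 11, 13, 14, 12, 2, 10], [1, 14, 1, 2, 1, 2, 2, 2, 0, 3, 7, 2, 0, 3, 7, 11, 0, 0, 5, 0, 0])],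
  .edge 1 3 [10, 5, 16, 3, 0, 3, 5, 0, 0, 4, 9, 1, 1, 10] [(22, [35, 30], [2, 1], [6, 5, 16, 4, 3, 0, 4, 0, 16, 4, 0, 7, 7, 5, 10, 5, 10, 5, 0, 0, 5, 10])],
  .edge 0 3 [8, 6, 6, 17, 14, 0, 3, 7, 5, 0, 0] [(21, [], [], [2, 7, 1, 14, 3, 3, 0, 2, 0, 6, 2, 0, 3, 11, 0, 0, 8, 5, 8, 5])],
  .edge 20 1 [1, 14, 12, 11, 16, 1, 2, 2, 1, 3, 1, 2, 2, 7, 5, 0, 0, 11, 4] [(16, [], [3, 12], [14, 12, 17, 14, 3, 3, 1, 2, 1, 2, 2, 7, 7, 5, 10, 5, 0, 0]), (2, [19, 20, 20, 18, 21, 21, 19], [7, 11, 12, 4, 11], [11, 1, 2, 0, 3, 8, 1]), (21, [34, 30, 26, 35, 26], [12, 7, 11, 13, 15, 12, 10, 4], [2, 1, 7, 14, 3, 3, 1, 2, 1, 2, 2, 2, 1, 3, 3, 3, 0, 2, 0, 7, 2, 0, 3, 8, 5, 1, 1, 4, 11, 4, 8, 5])],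
  .edge 10 4 [10, 0, 13, 10, 16, 3, 0, 2, 0, 3, 6, 11, 4, 4, 9, 1, 1, 4, 4, 9] [(24, [38, 42], [1, 15, 11, 0, 2], [14, 5, 11, 4, 16, 1, 2, 1, 2, 2, 2, 1, 3, 1, 3, 1, 2, 2, 7, 5, 0, 0, 11, 0, 0, 4, 9, 4, 9]), (12, [22, 22, 33, 22], [15, 7, 15, 11, 12, 0], [14, 16, 14, 3, 3, 1, 2, 2, 6, 2, 1, 3, 5, 0, 0, 5, 0, 0, 11, 4, 8, 5])],
  .edge 17 4 [11, 7, 4, 7, 16, 3, 1, 2, 2, 0, 2, 0, 3, 6, 6, 5, 0, 0, 5, 10, 5, 0, 0, 4, 9] [(24, [36], [6, 15], [10, 2, 2, 1, 3, 3, 14, 8, 10, 8, 16, 1, 3, 1, 2, 2, 6, 6, 5, 10, 4, 9, 5, 0, 0, 11, 4]), (25, [22, 22, 33, 33, 23], [11, 3, 15, 1, 12, 0], [4, 6, 9, 4, 16, 3, 3, 1, 2, 2, 2, 1, 3, 7, 3, 3, 0, 2, 0, 6, 8, 5, 8, 5, 5, 0, 0, 4, 9]), (27, [37, 40, 40, 36], [4, 14,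 10, 4, 13, 10], [5, 2, 0, 5, 16, 2, 0, 3, 3, 3, 0, 2, 0, 2, 0, 3, 5, 0, 0, 4, 9, 1, 1, 10])],
  .edge 9 4 [8, 8, 7, 16, 3, 7, 2, 1, 1, 3, 11, 4, 11, 4, 4, 9, 4, 9] [(4, [37, 41, 38, 40, 40, 36], [6, 13, 7, 14, 10], [10, 2, 1, 3, 11, 2, 2, 0, 3, 3, 0, 0, 0, 15, 2, 13, 0, 15, 0, 12, 12, 0, 2, 2, 2]), (25, [33, 25, 32, 32], [11, 6, 13, 1, 13, 2], [17, 14, 10, 7, 16, 1, 2, 2, 2, 0, 3, 6, 3, 3, 0, 2, 0, 8, 5, 8, 5, 5, 10, 5, 0, 0, 4, 9])],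
  .edge 10 2 [3, 3, 7, 4, 16, 3, 3, 0, 2, 1, 3, 1, 2, 2, 1, 3, 1, 2, 2, 7, 5, 0, 0, 5, 10, 5, 10, 4, 9, 4, 9] [(30, [22], [4, 1, 4, 13], [12, 3, 6, 16, 6, 14, 7, 7, 1, 3, 1, 2, 2, 1, 1, 4, 8, 5, 5, 10, 1, 1, 4]), (4, [38, 37, 42, 38], [5, 10, 7, 13, 2], [9, 0, 11, 2, 1, 3, 6, 0, 0, 15, 2, 13, 0, 15, 0, 12, 12, 0, 2, 2, 2])],
  .edge 20 4 [7, 17, 9, 10, 16, 3, 1, 2, 1, 2, 2, 7, 2, 0, 3, 6, 8, 5, 5, 0, 0, 5, 0, 0, 4, 9] [(4, [42, 40, 37, 38, 36], [11, 14, 7, 12, 14, 4], [1, 12, 9, 14, 16, 2, 1, 1, 3, 5, 10, 1, 1, 4, 4, 9, 4, 9]), (17, [25, 32, 22, 22], [14, 10, 12, 6, 15, 10, 8], [17, 9, 7, 16, 14, 3, 1, 2, 1, 2, 2, 7, 1, 3, 1, 2, 2, 7, 11, 4, 8, 5, 5, 0, 0, 4, 9]), (26, [32, 32, 25, 23], [12, 7,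 15, 12, 10], [2, 7, 7, 16, 1, 2, 2, 7, 7, 5, 0, 0, 11, 0, 0, 5, 10])],
  .edge 20 2 [9, 10, 7, 7, 16, 2, 7, 3, 3, 0, 2, 0, 2, 0, 3, 3, 3, 0, 2, 0, 11, 4, 11, 4, 8, 5, 8, 5] [(19, [32, 32, 25], [], [5, 9, 16, 10, 16, 3, 1, 2, 2, 7, 1, 3, 1, 2, 2, 6, 1, 1, 4, 8, 5, 8, 5, 5, 10]), (5, [], [6, 13, 10, 7, 13, 15, 13], [6, 9, 0, 9, 16, 3, 1, 2, 2, 2, 0, 3, 3, 3, 0, 2, 0, 2, 0, 3, 11, 0, 0, 4, 9, 5, 0, 0, 5, 10]), (1, [18, 20, 19, 21, 18, 21, 18, 21, 21, 18], [11, 12, 14, 0, 11, 4, 12], [1, 2, 0, 2, 0, 3, 3, 4, 1, 8, 2, 0, 3])],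
  .edge 30 2 [11, 17, 7, 14, 16, 3, 0, 3, 0, 2, 0, 3, 3, 0, 2, 0, 6, 6, 5, 0, 0, 11, 4, 8, 5, 5, 0, 0, 4, 9] [(6, [], [15, 10, 1, 5, 5], [3, 3, 6, 3, 3, 0, 2, 0, 3, 3, 0, 2, 0, 5, 0, 0, 11, 4, 11, 4, 1, 1, 4, 4, 9]), (11, [26, 34, 31, 31, 26], [14, 1, 13, 10, 7, 1], [2, 2, 0, 3, 3, 5, 2, 1, 3, 0, 11, 5, 0, 0, 5, 17, 1, 5, 1, 2, 5, 17, 1, 1, 12, 6]), (3, [33, 33, 24, 32, 32], [15, 3, 12, 5, 14], [2, 2, 1, 3, 3, 7, 2, 0, 3, 9, 2, 2, 0, 3, 3])],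
  .edge 5 3 [3, 3, 1, 2, 2, 8, 6, 4, 4, 16, 3, 3, 0, 2, 2, 0, 0, 3, 7, 11, 4, 8, 5, 5, 0, 0, 8, 5] [(31, [31, 31], [], [11, 7, 4, 7, 16, 3, 1, 2, 2, 0, 2, 0, 3, 6, 6, 5, 0, 0, 5, 10, 5, 0, 0, 4, 9]), (32, [36, 40, 36, 42], [13, 14, 3, 10, 2, 12], [6, 17, 8, 4, 16, 1, 2, 1, 2, 2, 2, 0, 3, 7, 4, 9, 4, 9, 5, 0, 0, 11, 4])],
  .edge 21 4 [12, 17, 10, 2, 10, 16, 3, 3, 0, 2, 2, 0, 0, 3, 6, 5, 0, 0, 5, 0, 0, 11, 4, 11, 4] [(36, [37, 42, 38, 37], [13, 15, 5, 10, 0, 12, 10], [8, 16, 14, 17, 1, 14, 3, 3, 0, 3, 0, 2, 0, 5, 10, 1, 1, 4, 8, 5, 8, 5]), (12, [32, 32, 23, 33, 23], [13, 15, 6, 11, 0, 6], [3, 0, 14, 3, 3, 0, 2, 2, 1, 1, 3, 6, 5, 10, 5, 0, 0, 5, 10, 4, 9]), (3, [33, 33, 22, 24, 22, 22], [11, 3, 12,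 4, 15, 11, 12], [1, 7, 2, 0, 3, 8, 2, 2, 1, 3, 3, 1, 2, 0, 3])],
  .edge 9 2 [1, 12, 16, 3, 3, 0, 2, 1, 3, 1, 2, 2, 6, 1, 1, 4, 11, 0, 0] [(19, [], [4, 12, 6, 10], [12, 6, 6, 17, 14, 3, 1, 2, 2, 1, 3, 1, 2, 2, 6, 2, 0, 3, 11, 0, 0, 8, 5]), (11, [31, 34, 34, 34, 34, 30], [15, 5, 1, 13, 11, 3], [0, 2, 0, 14, 2, 0, 3, 6, 6, 5, 10, 5, 10, 1, 1, 10, 5, 10])],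
  .edge 11 4 [6, 14, 13, 17, 1, 14, 3, 3, 0, 2, 7, 2, 1, 3, 3, 3, 0, 2, 0, 4, 9, 4, 9, 5, 0, 0, 4, 9] [(29, [36, 40], [12, 10, 5, 14, 4, 0], [14, 8, 16, 2, 0, 3, 7, 2, 0, 3, 7, 1, 1, 4, 11, 4, 4, 9, 1, 1, 4, 4, 9]), (2, [18, 18, 20, 19, 21], [11, 12, 1, 7, 14, 0], [1, 2, 0, 3, 5, 11, 2, 2, 0, 3, 3, 4])],
  .edge 10 2 [0, 13, 10, 6, 16, 3, 3, 1, 2, 1, 2, 2, 1, 3, 1, 2, 2, 2, 1, 3, 6, 2, 0, 3, 5, 10, 5, 0, 0, 5, 10, 4, 9] [(35, [23], [3, 0, 14], [10, 4, 14, 6, 16, 2, 0, 3, 6, 2, 0, 3, 6, 11, 4, 11, 0, 0, 8, 5]), (17, [24, 33, 25, 22], [12, 10, 5, 0, 14, 12, 1], [1, 14, 5, 16, 3, 3, 1, 2, 2, 7, 3, 3, 0, 2, 0, 7, 5, 0, 0, 5, 0, 0, 11, 0, 0])],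
  .edge 0 2 [16, 14, 0, 6, 3, 3, 0, 2, 0, 5, 0, 0, 11, 0, 0, 8, 5] [(19, [25], [13, 15], [4, 16, 2, 0, 14, 3, 1, 2, 2, 2, 0, 3, 3, 3, 0, 2, 0, 6, 5, 0, 0, 8, 5, 1, 1, 4])],
  .edge 24 2 [10, 14, 5, 8, 16, 3, 3, 0, 3, 0, 2, 0, 5, 10, 1, 1, 4, 8, 5, 5, 10] [(33, [23, 24, 22], [1, 12, 4, 4], [7, 2, 6, 6, 16, 2, 6, 1, 3, 1, 2, 2, 1, 3, 1, 2, 2, 6, 4, 9, 1, 1, 10, 5, 10]), (19, [32, 32, 22, 22], [2, 10, 7, 13, 15, 12, 10], [14, 12, 16, 7, 14, 3, 3, 0, 2, 2, 0, 0, 3, 5, 0, 0, 11, 4, 8, 5, 1, 1, 4]), (42, [35, 35, 28, 31, 34, 26], [15, 2, 2, 13, 1], [2, 2, 1, 3, 3, 6, 6, 2, 1, 3, 5, 16, 14, 0, 6, 3, 3, 0, 2, 0, 5, 0, 0, 11, 0, 0, 8, 5])],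
  .edge 16 2 [10, 4, 7, 4, 16, 3, 1, 3, 1, 2, 2, 1, 3, 1, 2, 2, 6, 5, 10, 4, 9] [(39, [24, 22], [14, 5, 12, 7, 0], [17, 8, 7, 16, 14, 3, 1, 2, 1, 2, 2, 7, 2, 0, 0, 3, 8, 5, 5, 0, 0, 5, 0, 0, 4, 9]), (35, [32, 24, 32, 25], [11, 12, 1, 14, 3, 12, 10], [7, 16, 8, 10, 4, 16, 3, 1, 2, 2, 7, 2, 0, 3, 7, 5, 0, 0, 5, 0, 0, 8, 5, 5, 10, 5, 10]), (10, [33, 23, 25, 33, 23], [10, 1, 15, 13, 7, 1], [2, 1, 14, 3, 1, 2, 1, 2, 2, 2, 0, 3, 7, 2, 0, 3, 6, 5, 10, 5, 10, 4, 9])],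
  .edge 11 2 [16, 14, 11, 5, 16, 3, 1, 2, 1, 2, 2, 2, 1, 1, 3, 6, 5, 0, 0, 11, 4] [(44, [32, 24, 33], [12, 14, 6, 3, 3], [11, 1, 7, 16, 3, 0, 2, 7, 3, 3, 0, 2, 0, 6, 6, 5, 10, 5, 0, 0, 11, 4, 11, 4, 4, 9]), (44, [23, 33, 23, 33, 22], [10, 7, 12, 10, 5, 10], [0, 11, 9, 7, 16, 3, 7, 2, 1, 3, 5, 10, 1, 1, 10])],
  .edge 14 3 [5, 6, 16, 14, 3, 1, 2, 2, 1, 3, 1, 2, 2, 2, 0, 3, 6, 6, 8, 5, 5, 10, 1, 1, 4] [(21, [31], [4, 10, 10], [8, 0, 0, 2, 7, 1, 14, 3, 3, 0, 2, 0, 6, 2, 0, 3, 11, 0, 0, 8, 5, 8, 5]), (4, [37, 41, 38, 40, 40, 36], [12, 1, 15, 4, 6], [2, 0, 3, 5, 2, 2, 1, 3, 3, 8, 10, 0, 0, 15, 2, 13, 0, 15, 0, 12, 12, 0, 2, 2, 2]), (19, [25, 32, 25, 32, 22, 22], [12, 14, 5, 10, 12, 14, 10], [8, 1, 6,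 16, 14, 3, 1, 2, 2, 0, 7, 2, 1, 3, 6, 5, 0, 0, 4, 9, 5, 0, 0, 5, 10])],
  .edge 26 2 [10, 16, 14, 10, 16, 3, 1, 2, 2, 7, 2, 0, 3, 7, 8, 5, 5, 10, 5, 0, 0] [(19, [23, 33, 22], [11, 14, 9, 0], [11, 1, 12, 16, 14, 3, 3, 0, 2, 6, 1, 3, 1, 2, 2, 1, 3, 1, 2, 2, 6, 5, 0, 0, 11, 4, 8, 5, 5, 0, 0]), (42, [28, 27, 34, 30, 34, 26], [1, 12, 6, 11, 13, 14, 1], [13, 4, 17, 0, 14, 3, 3, 0, 3, 0, 2, 0, 2, 0, 3, 7, 7, 5, 0, 0, 4, 9, 1, 1, 4, 11, 4]), (33, [22, 22, 33, 33, 33], [0, 5, 14, 10, 12, 10], [17, 13, 4, 4, 16, 3, 1, 2, 1, 2, 2, 2, 1, 3, 3, 3, 0, 2, 0, 7, 8, 5, 5, 10, 1, 1, 10])],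
  .edge 19 2 [17, 3, 3, 0, 2, 1, 3, 1, 2, 2, 6, 6, 11, 4, 1, 1, 4, 8, 5, 1, 1, 4] [(7, [], [11, 14, 5, 13, 14, 10, 5], [10, 4, 0, 5, 16, 1, 2, 1, 2, 2, 6, 2, 1, 3, 5, 0, 0, 11, 4, 4, 9, 5, 0, 0]), (2, [18, 20, 19, 20, 20], [11, 14, 0, 3, 13, 6], [1, 2, 2, 0, 3, 3, 4, 7, 2, 1, 3, 10]), (21, [28, 34, 34], [6, 5, 15, 5], [11, 11, 0, 14, 3, 1, 2, 2, 7, 2, 0, 3, 7, 8, 5, 8, 5, 5, 0, 0, 5, 10])],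
  .edge 10 2 [14, 6, 3, 6, 16, 1, 2, 1, 2, 2, 7, 3, 3, 0, 2, 0, 6, 6, 5, 0, 0, 11, 4, 8, 5, 5, 0, 0, 4, 9] [(7, [32, 32, 32], [8, 4, 1, 13], [7, 3, 9, 16, 3, 3, 1, 2, 1, 2, 2, 7, 7, 1, 3, 1, 2, 2, 8, 5, 1, 1, 10, 4, 9]), (1, [20, 20, 19, 21, 19, 21, 18, 20, 19], [1, 6, 14, 10], [5, 10, 2, 2, 0, 3, 3, 0])],
  .edge 13 4 [0, 10, 17, 11, 4, 16, 3, 1, 2, 2, 1, 3, 1, 2, 2, 2, 1, 3, 11, 0, 0, 11, 4, 8, 5] [(37, [42], [0, 12, 5, 2, 1], [9, 14, 7, 16, 3, 0, 2, 6, 3, 3, 0, 2, 0, 6, 11, 4, 4, 9]), (42, [35, 35, 31, 27], [3, 10, 4, 15, 0], [9, 11, 14, 8, 16, 0, 6, 11, 4, 1, 1, 4, 8, 5])],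
  .edge 23 2 [6, 6, 1, 6, 16, 3, 0, 2, 7, 1, 3, 1, 2, 2, 1, 3, 1, 2, 2, 6, 11, 4, 11, 4, 4, 9, 5, 0, 0] [(35, [22, 22], [13, 9, 7, 15, 4], [13, 10, 9, 16, 1, 2, 2, 2, 0, 3, 1, 3, 1, 2, 2, 6, 2, 0, 3, 11, 4, 11, 4, 8, 5, 8, 5]), (50, [33, 23, 23, 23], [10, 6, 6, 14, 12, 3], [8, 17, 13, 6, 16, 3, 1, 2, 1, 2, 2, 2, 0, 3, 6, 2, 0, 3, 6, 1, 1, 10, 4, 9]), (32, [42, 36, 42], [12, 14, 9, 12, 0, 0], [14, 0, 8, 5, 16, 3, 1, 2, 2, 6, 2, 1, 1, 3, 8, 5, 8, 5, 5, 0, 0])],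
  .edge 2 3 [0, 0, 9, 9, 7, 16, 6, 14, 3, 1, 2, 2, 2, 1, 1, 3, 4, 9, 5, 0, 0, 11, 0, 0] [(40, [35], [], [6, 14, 13, 17, 1, 14, 3, 3, 0, 2, 7, 2, 1, 3, 3, 3, 0, 2, 0, 4, 9, 4, 9, 5, 0, 0, 4, 9])],
  .edge 22 2 [5, 16, 5, 0, 14, 3, 1, 2, 1, 2, 2, 2, 1, 3, 3, 3, 0, 2, 1, 4, 11, 0, 0, 5, 10] [(7, [32], [11], [1, 11, 17, 12, 8, 16, 3, 1, 2, 2, 2, 0, 0, 3, 6, 11, 0, 0, 11, 4, 8, 5]), (2, [20, 20, 20, 19, 21, 18, 18], [10, 12, 5, 15, 9, 5], [0, 2, 0, 3, 9, 2, 2, 1, 3, 3, 13, 9]), (11, [31, 35, 26, 26], [15, 13, 4, 3, 1], [3, 1, 7, 14, 2, 6, 6, 2, 0, 3, 6, 11, 4, 1, 1, 4, 11, 4, 4, 9])],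
  .edge 1 4 [6, 4, 14, 16, 3, 0, 2, 7, 1, 3, 1, 2, 2, 1, 3, 1, 2, 2, 7, 11, 4, 8, 5, 8, 5] [(29, [42], [9, 0, 14], [5, 0, 9, 16, 14, 3, 1, 2, 2, 6, 2, 1, 1, 3, 1, 1, 4, 11, 0, 0, 4, 9])],
  .edge 20 2 [14, 4, 9, 16, 1, 2, 1, 2, 2, 1, 3, 1, 2, 2, 2, 1, 3, 6, 5, 0, 0, 5, 10, 5, 10, 5, 0, 0] [(47, [], [15, 8, 10, 6], [7, 16, 7, 14, 3, 3, 1, 2, 2, 6, 3, 3, 0, 2, 0, 7, 11, 0, 0, 4, 9]), (17, [24, 33, 24], [10, 12, 3, 15, 10, 7], [9, 3, 14, 10, 16, 3, 1, 2, 1, 2, 2, 2, 0, 3, 6, 1, 3, 1, 2, 2, 11, 4, 1, 1, 4, 8, 5, 5, 10]), (12, [25, 33, 33, 22], [14, 3, 12, 2, 14, 1], [4, 1, 14, 2, 7, 1, 3, 1, 2, 2, 7, 2, 0, 3, 8, 5, 1, 1, 4, 4, 9, 5, 0, 0])],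
  .edge 3 4 [13, 7, 7, 17, 14, 3, 3, 0, 2, 7, 3, 3, 0, 2, 0, 6, 6, 5, 0, 0, 4, 9, 1, 1, 4, 4, 9] [(4, [41, 38, 40, 40, 36], [10, 12, 7, 15, 7], [4, 6, 14, 16, 3, 0, 2, 1, 3, 1, 2, 2, 2, 0, 3, 11, 4, 4, 9, 4, 9, 1, 1, 4]), (53, [32, 32, 22, 22, 22], [5, 10, 6, 12, 10, 7], [7, 8, 5, 5, 16, 3, 3, 3, 0, 2, 6, 3, 3, 0, 2, 0, 7, 4, 9, 1, 1, 4, 11, 4])],
  .edge 23 3 [1, 6, 3, 8, 16, 2, 1, 3, 1, 2, 2, 2, 1, 3, 8, 5, 1, 1, 4, 11, 4, 1, 1, 4] [(5, [], [13, 15, 11, 4, 12, 14, 10, 4], [5, 14, 3, 7, 16, 3, 3, 0, 2, 6, 6, 1, 3, 1, 2, 2, 8, 5, 5, 0, 0, 5, 10, 4, 9]), (1, [21, 19, 21, 21, 18, 21, 19, 21, 18], [12, 7, 0, 11, 5], [2, 0, 3, 11, 4, 1, 9]), (9, [33, 33, 24, 33, 22, 22], [3, 14, 6, 11, 5], [7, 2, 0,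 14, 3, 3, 0, 2, 0, 2, 0, 3, 3, 3, 0, 2, 0, 11, 0, 0, 11, 4, 8, 5, 5, 0, 0])],
  .edge 10 2 [11, 11, 3, 9, 16, 3, 3, 1, 2, 1, 2, 2, 6, 3, 3, 0, 2, 0, 6, 6, 5, 10, 1, 1, 4, 4, 9] [(39, [], [13, 5, 3], [2, 1, 3, 9, 7, 1, 12, 16, 3, 3, 0, 2, 1, 3, 1, 2, 2, 6, 1, 1, 4, 11, 0, 0]), (53, [24, 22, 32, 32, 22], [3, 13, 15, 10, 3], [1, 13, 2, 7, 16, 3, 1, 2, 2, 1, 3, 1, 2, 2, 6, 2, 0, 3, 8, 5, 5, 0, 0, 4, 9, 4, 9])],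
  .edge 17 4 [17, 13, 5, 6, 16, 2, 7, 2, 1, 3, 3, 3, 0, 2, 0, 11, 4, 4, 9, 4, 9] [(51, [41], [7, 13, 3], [14, 16, 11, 8, 6, 16, 3, 3, 0, 2, 2, 1, 3, 6, 1, 3, 1, 2, 2, 7, 8, 5, 5, 0, 0, 5, 10]), (3, [32, 32, 32, 23, 32, 22], [5, 14, 5, 5, 10], [9, 2, 2, 0, 3, 3, 9, 9, 0]), (38, [42, 36, 39, 40], [3, 0, 6, 13, 3], [16, 1, 7, 4, 16, 3, 0, 3, 0, 2, 0, 2, 1, 3, 6, 6, 8, 5, 8, 5, 5, 10, 5, 10])],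
  .edge 28 2 [0, 0, 2, 16, 1, 8, 8, 14, 9, 13, 1, 17, 1, 12] [(9, [22, 24, 33, 33, 22, 22], [11, 2, 13, 14, 7, 12, 10], [2, 1, 6, 14, 3, 1, 2, 2, 2, 1, 3, 3, 3, 0, 2, 0, 6, 1, 1, 10, 5, 0, 0, 5, 0, 0, 4, 9]), (42, [34, 30, 35, 30, 27, 34, 26], [13, 7, 3, 15], [2, 1, 3, 11, 7, 2, 2, 1, 3, 3, 16, 14, 0, 6, 3, 3, 0, 2, 0, 5, 0, 0, 11, 0, 0, 8, 5]), (25, [32, 24, 32, 32, 32, 23], [0, 11, 13, 2, 1], [14, 5, 8, 7, 5, 16, 3, 1, 2, 2, 2, 1, 1, 3, 7, 5, 0, 0, 5, 0, 0, 11, 0, 0, 5, 0, 0])],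
  .edge 29 4 [7, 7, 5, 14, 3, 3, 0, 2, 2, 0, 0, 3, 7, 8, 5, 5, 0, 0, 4, 9] [(60, [], [11, 0, 13, 9], [1, 4, 2, 1, 3, 13, 0, 0, 2, 16, 1, 8, 8, 14, 9, 13, 1, 17, 1, 12]), (3, [23, 33, 33, 33, 22], [13, 10, 4, 13, 14, 2], [2, 1, 3, 0, 8, 2, 1, 2, 0, 3, 3, 6]), (51, [38, 42, 39, 36], [12, 1, 15, 5, 0, 0], [5, 16, 11, 16, 14, 3, 3, 0, 2, 7, 7, 1, 3, 1, 2, 2, 1, 1, 4, 8, 5, 5, 10, 5, 10])],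
  .edge 0 2 [10, 6, 4, 10, 16, 3, 3, 0, 2, 7, 2, 1, 3, 11, 4, 11, 0, 0, 5, 0, 0] [(61, [], [9, 5], [13, 9, 7, 7, 5, 14, 3, 3, 0, 2, 2, 0, 0, 3, 7, 8, 5, 5, 0, 0, 4, 9])],
  .edge 16 2 [9, 14, 12, 10, 16, 3, 1, 2, 2, 0, 7, 8, 5, 5, 10, 5, 10] [(39, [23], [], [1, 12, 16, 3, 3, 0, 2, 1, 3, 1, 2, 2, 6, 1, 1, 4, 11, 0, 0]), (3, [25, 33, 33, 33, 25], [12, 6, 10, 12, 9, 2], [2, 0, 3, 10, 0, 2, 0, 3, 13, 6]), (4, [41, 42, 40, 36, 36], [11, 12, 14, 10, 4, 12, 9], [4, 16, 0, 4, 16, 3, 1, 2, 1, 2, 2, 5, 0, 0, 11, 4, 1, 1, 4, 8, 5, 5, 10])],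
  .edge 8 2 [16, 14, 11, 6, 16, 3, 1, 3, 1, 2, 2, 5, 10, 1, 1, 4, 11, 4] [(47, [], [2, 14, 1, 12, 6], [7, 2, 0, 5, 16, 1, 2, 1, 2, 2, 7, 1, 3, 1, 2, 2, 5, 10, 1, 1, 4, 4, 9, 4, 9]), (49, [23, 25, 33, 33, 22], [8, 4, 15, 3], [10, 8, 6, 4, 16, 7, 3, 3, 0, 2, 0, 3, 3, 0, 2, 1, 10, 5, 0, 0, 5, 10])],
  .edge 18 4 [9, 2, 11, 5, 16, 2, 0, 3, 3, 3, 0, 2, 0, 6, 6, 5, 10, 1, 1, 10, 4, 9] [(38, [41], [1, 3, 3, 0], [5, 7, 7, 4, 12, 17, 10, 2, 10, 16, 3, 3, 0, 2, 2, 0, 0, 3, 6, 5, 0, 0, 5, 0, 0, 11, 4, 11, 4]), (51, [36, 42, 37, 42, 36], [2, 4, 10, 10, 3], [0, 14, 1, 11, 6, 16, 3, 3, 0, 2, 6, 1, 3, 1, 2, 2, 2, 0, 3, 5, 0, 0, 5, 0, 0, 5, 10, 5, 0, 0, 4, 9]), (56, [24, 33, 24, 33, 22, 22], [11, 13, 15, 7, 13,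 7], [7, 7, 3, 14, 16, 1, 3, 1, 2, 2, 6, 2, 0, 3, 6, 1, 1, 4, 11, 4, 8, 5, 5, 0, 0, 4, 9])],
  .edge 21 3 [10, 14, 4, 16, 3, 0, 2, 0, 3, 6, 8, 5, 1, 1, 10] [(42, [35, 35, 35, 30, 27, 27], [11, 13, 1, 14, 10, 4], [8, 7, 17, 0, 14, 3, 1, 2, 1, 2, 2, 6, 3, 3, 0, 2, 0, 5, 10, 1, 1, 10, 4, 9]), (23, [22, 32, 32, 24], [11, 13, 0, 15, 2], [4, 4, 14, 16, 1, 3, 6, 1, 3, 1, 2, 2, 6, 5, 10, 1, 1, 4, 4, 9, 1, 1, 4]), (28, [39, 36, 39, 40], [11, 13, 10, 5, 3, 14, 0], [1, 2, 1, 3, 0, 9, 7, 2, 2, 0, 3, 3, 4, 8, 6, 6, 17, 14, 0, 3, 7, 5, 0, 0])],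
  .edge 31 2 [0, 0, 2, 16, 9, 15, 16, 6, 5, 6, 9, 9] [(9, [25, 23, 33, 33, 33], [0, 14, 7, 5, 1], [1, 6, 2, 0, 14, 3, 1, 2, 1, 2, 2, 2, 0, 0, 3, 1, 1, 4, 11, 4, 11, 4, 4, 9, 4, 9]), (21, [30, 30, 34, 30, 26], [15, 12, 4, 14, 10, 9], [0, 14, 1, 2, 2, 0, 3, 3, 0, 2, 0, 5, 0, 0, 11, 4, 4, 9, 1, 1, 10]), (32, [36, 39, 42], [6, 0, 11, 13, 14], [14, 13, 1, 14, 16, 3, 1, 2, 1, 2, 2, 1, 3, 1, 2, 2, 1, 3, 1, 2, 2, 6, 11, 4, 4, 9])]]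

/-- The cycles. -/
def cycles : List (List (Option (List ℕ))) := [
  [some [1, 1], none],
  [none, some [1, 1]],
  [some [1, 1], none, some []],
  [some [0, 0, 3, 3, 0, 2, 2], none, some [3, 3, 0, 2, 2], none, some [3, 3, 0, 2, 2]],
  [some [3, 3, 0, 2, 2], none, some [0, 0, 3, 3, 0, 2, 2], none, some [3, 3, 0, 2, 2]],
  [some [3, 3, 0, 2, 2], none, some [3, 3, 0, 2, 2], none, some [0, 0, 3, 3, 0, 2, 2]],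
  [some [3, 3, 1, 2, 2, 1, 1], none, some [3, 3, 1, 2, 2, 1, 1, 1, 1], none, some [3, 3, 1, 2, 2, 1, 1]],
  [some [3, 3, 1, 2, 2, 1, 1], none, some [3, 3, 1, 2, 2, 1, 1], none, some [3, 3, 1, 2, 2, 1, 1, 1, 1]],
  [some [5, 17, 1, 5, 1, 2, 5, 17], none, some [1, 5, 17, 0, 5, 3, 0, 5, 17, 1, 5, 0, 4, 3, 3, 5, 3, 1, 3, 3], none, some [1, 16, 3, 5, 1, 2, 5, 17, 2, 5, 3, 1, 5, 0, 3, 0, 2, 0, 3]],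
  [some [1, 16, 3, 5, 1, 2, 5, 17, 2, 5, 3, 1, 5, 0, 3, 0, 2, 0, 3], none, some [5, 17, 1, 5, 1, 2, 5, 17], none, some [1, 5, 17, 0, 5, 3, 0, 5, 17, 1, 5, 0, 4, 3, 3, 5, 3, 1, 3, 3]],
  [some [1, 5, 17, 0, 5, 3, 0, 5, 17, 1, 5, 0, 4, 3, 3, 5, 3, 1, 3, 3], none, some [1, 16, 3, 5, 1, 2, 5, 17, 2, 5, 3, 1, 5, 0, 3, 0, 2, 0, 3], none, some [5, 17, 1, 5, 1, 2, 5, 17]],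
  [some [16, 4, 3, 0, 4, 0, 16, 4, 1, 1], none, some [2, 1, 3, 1, 2, 1, 4, 0, 2, 4, 3, 16, 4, 3, 0, 4, 2, 17, 1], none, some [2, 2, 0, 2, 4, 2, 2, 5, 1, 4, 0, 16, 4, 1, 2, 4, 1, 16, 4, 1]],
  [some [2, 2, 0, 2, 4, 2, 2, 5, 1, 4, 0, 16, 4, 1, 2, 4, 1, 16, 4, 1], none, some [16, 4, 3, 0, 4, 0, 16, 4, 1, 1], none, some [2, 1, 3, 1, 2, 1, 4, 0, 2, 4, 3, 16, 4, 3, 0, 4, 2, 17, 1]],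
  [some [2, 1, 3, 1, 2, 1, 4, 0, 2, 4, 3, 16, 4, 3, 0, 4, 2, 17, 1], none, some [2, 2, 0, 2, 4, 2, 2, 5, 1, 4, 0, 16, 4, 1, 2, 4, 1, 16, 4, 1], none, some [16, 4, 3, 0, 4, 0, 16, 4, 1, 1]],
  [some [0, 2, 1, 2, 2, 1, 2, 2, 5, 0, 4, 2, 4, 3, 16, 4, 3, 3, 16, 4, 2, 4, 1, 1], none, some [16], none, some [1, 5, 17, 2, 1, 3, 5, 17, 2, 1, 3, 5, 3, 0, 3, 3, 0, 3], none, some [17, 1, 1]],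
  [some [1, 5, 17, 2, 1, 3, 5, 17, 2, 1, 3, 5, 3, 0, 3, 3, 0, 3], none, some [17, 1, 1], none, some [0, 2, 1, 2, 2, 1, 2, 2, 5, 0, 4, 2, 4, 3, 16, 4, 3, 3, 16, 4, 2, 4, 1, 1], none, some [16]],
  [some [16], none, some [1, 5, 17, 2, 1, 3, 5, 17, 2, 1, 3, 5, 3, 0, 3, 3, 0, 3], none, some [17, 1, 1], none, some [0, 2, 1, 2, 2, 1, 2, 2, 5, 0, 4, 2, 4, 3, 16, 4, 3, 3, 16, 4, 2, 4, 1, 1]],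
  [some [5, 3, 5, 17, 2, 2, 5, 17, 2, 5, 3, 5, 1, 4, 3, 3, 0, 3, 3, 0, 3, 1, 1, 1], none, some [16], none, some [2, 1, 2, 2, 1, 2, 4, 2, 0, 3, 16, 4, 2, 0, 3, 16, 4, 0], none, some [17, 1, 1]],
  [some [2, 1, 2, 2, 1, 2, 4, 2, 0, 3, 16, 4, 2, 0, 3, 16, 4, 0], none, some [17, 1, 1], none, some [5, 3, 5, 17, 2, 2, 5, 17, 2, 5, 3, 5, 1, 4, 3, 3, 0, 3, 3, 0, 3, 1, 1, 1], none, some [16]],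
  [some [16], none, some [2, 1, 2, 2, 1, 2, 4, 2, 0, 3, 16, 4, 2, 0, 3, 16, 4, 0], none, some [17, 1, 1], none, some [5, 3, 5, 17, 2, 2, 5, 17, 2, 5, 3, 5, 1, 4, 3, 3, 0, 3, 3, 0, 3, 1, 1, 1]],
  [some [0, 3, 3, 1, 4, 2, 5, 2, 1, 5, 5, 16, 4, 0, 4, 1, 4, 3, 17, 1, 1], none, some [2, 0, 3, 1, 3, 3, 1, 3, 4, 2, 2, 4, 2, 16, 4, 3, 3, 16, 4, 2, 4], none, some [17, 0, 4, 2, 4, 1, 5, 17, 0, 3, 1, 4, 1, 3, 3, 1, 2, 1], none, some [5, 3, 5, 17, 2, 2, 5, 17, 3, 5, 3, 3, 5, 2, 0, 2, 2, 0, 2, 1, 3, 1, 1]],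
  [some [5, 3, 5, 17, 2, 2, 5, 17, 3, 5, 3, 3, 5, 2, 0, 2, 2, 0, 2, 1, 3, 1, 1], none, some [0, 3, 3, 1, 4, 2, 5, 2, 1, 5, 5, 16, 4, 0, 4, 1, 4, 3, 17, 1, 1], none, some [2, 0, 3, 1, 3, 3, 1, 3, 4, 2, 2, 4, 2, 16, 4, 3, 3, 16, 4, 2, 4], none, some [17, 0, 4, 2, 4, 1, 5, 17, 0, 3, 1, 4, 1, 3, 3, 1, 2, 1]],
  [some [0, 3, 0, 2, 2, 0, 5, 0, 2, 1, 16, 4, 0, 5, 3, 5, 1, 16], none, some [5, 3, 5, 17, 2, 2, 5, 17, 3, 5, 3, 3, 5, 2, 0, 2, 2, 0, 2, 1, 3, 1, 1], none, some [16, 2, 5, 0, 5, 1, 5, 17, 4, 4, 0, 3, 4, 3, 5, 0, 2, 2, 1, 1, 1], none, some [2, 0, 3, 1, 3, 3, 1, 3, 4, 2, 2, 4, 2, 16, 4, 3, 3, 16, 4, 2, 4]],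
  [some [16, 2, 5, 0, 5, 1, 5, 17, 4, 4, 0, 3, 4, 3, 5, 0, 2, 2, 1, 1, 1], none, some [2, 0, 3, 1, 3, 3, 1, 3, 4, 2, 2, 4, 2, 16, 4, 3, 3, 16, 4, 2, 4], none, some [0, 3, 0, 2, 2, 0, 5, 0, 2, 1, 16, 4, 0, 5, 3, 5, 1, 16], none, some [5, 3, 5, 17, 2, 2, 5, 17, 3, 5, 3, 3, 5, 2, 0, 2, 2, 0, 2, 1, 3, 1, 1]],
  [some [5, 3, 5, 17, 2, 2, 5, 17, 3, 5, 3, 3, 5, 2, 0, 2, 2, 0, 2, 1, 3, 1, 1], none, some [16, 2, 5, 0, 5, 1, 5, 17, 4, 4, 0, 3, 4, 3, 5, 0, 2, 2, 1, 1, 1], none, some [2, 0, 3, 1, 3, 3, 1, 3, 4, 2, 2, 4, 2, 16, 4, 3, 3, 16, 4, 2, 4], none, some [0, 3, 0, 2, 2, 0, 5, 0, 2, 1, 16, 4, 0, 5, 3, 5, 1, 16]],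
  [some [5, 1, 4, 2, 5, 17, 4, 1, 4, 0, 4, 3, 1, 3, 1, 2], none, some [17, 3, 1, 1], none, some [2, 2, 1, 3, 1, 2, 2, 5, 0, 4, 1, 5, 16, 5, 2, 2, 1, 4, 2, 1, 1], none, some [2, 16]],
  [some [2, 16], none, some [5, 1, 4, 2, 5, 17, 4, 1, 4, 0, 4, 3, 1, 3, 1, 2], none, some [17, 3, 1, 1], none, some [2, 2, 1, 3, 1, 2, 2, 5, 0, 4, 1, 5, 16, 5, 2, 2, 1, 4, 2, 1, 1]],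
  [some [2, 2, 1, 3, 1, 2, 2, 5, 0, 4, 1, 5, 16, 5, 2, 2, 1, 4, 2, 1, 1], none, some [2, 16], none, some [5, 1, 4, 2, 5, 17, 4, 1, 4, 0, 4, 3, 1, 3, 1, 2], none, some [17, 3, 1, 1]],
  [some [17, 3, 1, 1], none, some [2, 2, 1, 3, 1, 2, 2, 5, 0, 4, 1, 5, 16, 5, 2, 2, 1, 4, 2, 1, 1], none, some [2, 16], none, some [5, 1, 4, 2, 5, 17, 4, 1, 4, 0, 4, 3, 1, 3, 1, 2]],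
  [some [2, 16], none, some [3, 0, 2, 0, 2, 5, 1, 5, 0, 5, 16, 4, 3, 5, 0, 4], none, some [17, 3, 1, 1], none, some [3, 5, 0, 3, 3, 4, 17, 4, 0, 5, 1, 4, 3, 3, 0, 2, 0, 3, 3, 1, 1]],
  [some [3, 5, 0, 3, 3, 4, 17, 4, 0, 5, 1, 4, 3, 3, 0, 2, 0, 3, 3, 1, 1], none, some [2, 16], none, some [3, 0, 2, 0, 2, 5, 1, 5, 0, 5, 16, 4, 3, 5, 0, 4], none, some [17, 3, 1, 1]],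
  [some [17, 3, 1, 1], none, some [3, 5, 0, 3, 3, 4, 17, 4, 0, 5, 1, 4, 3, 3, 0, 2, 0, 3, 3, 1, 1], none, some [2, 16], none, some [3, 0, 2, 0, 2, 5, 1, 5, 0, 5, 16, 4, 3, 5, 0, 4]]]

/-- For each cycle: relator, orientation, rotation. -/
def cycleCert : List (ℕ × Bool × ℕ) := [(80, true, 0), (80, true, 1), (80, true, 0), (81, true, 5), (81, true, 11), (81, true, 17), (81, false, 12), (81, false, 20), (82, true, 8), (82, true, 28), (82, true, 49), (82, false, 2), (82, false, 25), (82, false, 47), (83, true, 2), (83, true, 25), (83, true, 27), (83, false, 24), (83, false, 47), (83, false, 49), (84, true, 44), (84, true, 68), (84, false, 18), (84, false, 62), (84, false, 86), (85, true, 0), (85,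 true, 3), (85, true, 25), (85, true, 30), (85, false, 19), (85, false, 41), (85, false, 46)]

end Cfsg.Agent.Lyons
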