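import Cfsg.Agent.Lib.Lyons.Group
import Cfsg.Agent.Lib.Lyons.TopData
import Cfsg.Agent.Lib.HNPresented.Points
import Cfsg.Agent.Lib.LyPresented.KIso

/-!
# Equations between the cosets of `⟨a, b, c, d⟩` in Ly

* `range_toLy` : the image of `L` is the subgroup
* `zz_sq`, `twist`, `stab_twist` : the twist of the letters by `z`
* `cycle` : the cycles are relators
* `cfg`, `pt`, `holds` : all equations and fixing elements of the derivation
-/

set_option autoImplicit false
set_option maxRecDepth 100000
set_option Elab.async false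

namespace Cfsg.Agent.Lyons

open Cfsg Cfsg.Spor Cfsg.Agent.CosetEnum Cfsg.Agent.StabCert
open Cfsg.Agent.HNPresented (winv wordEl_winv wordEl_cons wordEl_nil Cfg Sound FactHolds FixHolds)
open Cfsg.Agent.LyPresented (lyH)

/-- The generator `z`. -/
noncomputable abbrev zz : Spor.Ly := elL 18

theorem range_toLy : toLy.range = lyH := by
  rw [← LyPresented.range_toLy]
  refine le_antisymm ?_ ?_
  · rw [MonoidHom.range_eq_map, ← PresentedGroup.closure_range_of, MonoidHom.map_closure, Subgroup.closure_le]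
    rintro _ ⟨_, ⟨g, rfl⟩, rfl⟩
    rw [toLy_of]
    cases g with
    | a => exact ⟨PresentedGroup.of LyPresented.KGen.a, LyPresented.toLy_of _⟩
    | b => exact ⟨PresentedGroup.of LyPresented.KGen.b, LyPresented.toLy_of _⟩
    | c => exact ⟨PresentedGroup.of LyPresented.KGen.c, LyPresented.toLy_of _⟩
    | c2 => exact ⟨PresentedGroup.of LyPresented.KGen.c2, LyPresented.toLy_of _⟩
    | c3 => exact ⟨PresentedGroup.of LyPresented.KGen.c3, LyPresented.toLy_of _⟩
    | c4 => exact ⟨PresentedGroup.of LyPresented.KGen.c4, LyPresented.toLy_of _⟩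
    | c5 => exact ⟨PresentedGroup.of LyPresented.KGen.c5, LyPresented.toLy_of _⟩
    | e => exact ⟨PresentedGroup.of LyPresented.KGen.e, LyPresented.toLy_of _⟩
    | d => exact ⟨PresentedGroup.of LyPresented.KGen.d, LyPresented.toLy_of _⟩
  · rw [MonoidHom.range_eq_map, ← PresentedGroup.closure_range_of, MonoidHom.map_closure, Subgroup.closure_le]
    rintro _ ⟨_, ⟨g, rfl⟩, rfl⟩
    rw [LyPresented.toLy_of]
    cases g with
    | a => exact ⟨PresentedGroup.of LyH.Gen.a, toLy_of _⟩
    | b => exact ⟨PresentedGroup.of LyH.Gen.b, toLy_of _⟩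
    | c => exact ⟨PresentedGroup.of LyH.Gen.c, toLy_of _⟩
    | d => exact ⟨PresentedGroup.of LyH.Gen.d, toLy_of _⟩
    | e => exact ⟨PresentedGroup.of LyH.Gen.e, toLy_of _⟩
    | c1 =>
      refine ⟨PresentedGroup.of LyH.Gen.c, (toLy_of _).trans ?_⟩
      show (PresentedGroup.of Ly.Gen.c : Spor.Ly) = PresentedGroup.of Ly.Gen.c1
      rw [of_eq_gw, of_eq_gw Ly.Gen.c1]
      rfl
    | c2 => exact ⟨PresentedGroup.of LyH.Gen.c2, toLy_of _⟩
    | c3 => exact ⟨PresentedGroup.of LyH.Gen.c3, toLy_of _⟩
    | c4 => exact ⟨PresentedGroup.of LyH.Gen.c4, toLy_of _⟩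
    | c5 => exact ⟨PresentedGroup.of LyH.Gen.c5, toLy_of _⟩

/-- The coset of the subgroup itself. -/
noncomputable abbrev base : Spor.Ly ⧸ lyH := ((1 : Spor.Ly) : Spor.Ly ⧸ lyH)

theorem smul_base (k : L) : toLy k • base = base :=
  QuotientGroup.eq.2 (by
    simp only [smul_eq_mul, mul_one, inv_mem_iff]
    rw [← range_toLy]
    exact ⟨k, rfl⟩)

/-- A word that reduces to a relator is trivial. -/
theorem rel_word (k : ℕ) (w : List ℕ)
    (h : (Nat.blt k Ly.extra.length && reduce (letters (Ly.extra.getD k 1)) == reduce w) = true) :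
    wordEl elL w = 1 := by
  simp only [Bool.and_eq_true, Nat.blt_eq] at h
  rw [← eq_of_reduce h.2]
  refine rel_letters ?_
  rw [List.getD_eq_getElem _ _ h.1]
  exact List.getElem_mem _

theorem zz_sq : zz * zz = elL 0 * elL 0 := by
  have h := rel_word 80 [18, 18, 1, 1] (by decide +kernel)
  simp only [wordEl_cons elL, wordEl_nil elL, mul_one] at h
  rw [show elL 1 = (elL 0)⁻¹ from elL_inv 0] at h
  calc zz * zz = zz * (zz * ((elL 0)⁻¹ * (elL 0)⁻¹)) * (elL 0 * elL 0) := by group
    _ = elL 0 * elL 0 := by rw [h, one_mul]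

theorem zz_inv : elL 19 = wordEl elL [1, 1, 18] := by
  rw [show elL 19 = zz⁻¹ from elL_inv 9]
  simp only [wordEl_cons elL, wordEl_nil elL, mul_one]
  rw [show elL 1 = (elL 0)⁻¹ from elL_inv 0]
  calc zz⁻¹ = ((elL 0)⁻¹ * (elL 0)⁻¹) * (elL 0 * elL 0) * zz⁻¹ := by group
    _ = ((elL 0)⁻¹ * (elL 0)⁻¹) * (zz * zz) * zz⁻¹ := by rw [zz_sq]
    _ = (elL 0)⁻¹ * ((elL 0)⁻¹ * zz) := by group

theorem wordEl_substZ : ∀ l : List ℕ, wordEl elL (substZ l) = wordEl elL l
  | [] => rfl
  | a :: l => by
    rw [wordEl_cons elL a l, substZ, List.flatMap_cons, wordEl_append, ← substZ, wordEl_substZ l]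
    congr 1
    by_cases h : a = 19
    · rw [if_pos (by simp [h]), h, zz_inv]
    · rw [if_neg (by simp [h]), wordEl_cons, wordEl_nil, mul_one]

theorem wordEl_inv_pair {M : Type*} [Group M] {el : ℕ → M} (hinv : ∀ n, el (2 * n + 1) = (el (2 * n))⁻¹)
    {v w : List ℕ} (h : wordEl el (reduce v) = wordEl el v) (h' : wordEl el (reduce w) = wordEl el w)
    (e : (reduce (winv v) == reduce w) = true) (h'' : wordEl el (reduce (winv v)) = wordEl el (winv v)) :
    wordEl el w = (wordEl el v)⁻¹ := by
  rw [← h', ← beq_iff_eq.1 e, h'', wordEl_winv hinv]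

/-- The check of the twisted letters. -/
def twistOK : Bool :=
  (List.range 8).all fun j =>
    (Nat.blt (72 + j) Ly.extra.length && reduce (letters (Ly.extra.getD (72 + j) 1)) ==
        reduce ([19] ++ ph.getD (2 * j) [] ++ [18] ++ winv (sw.getD (2 * j) []))) &&
      (reduce (winv (sw.getD (2 * j) [])) == reduce (sw.getD (2 * j + 1) [])) &&
      (reduce (winv (ph.getD (2 * j) [])) == reduce (ph.getD (2 * j + 1) []))

theorem twist_ok : twistOK = true := by decide +kernel

theorem twist : ∀ n < sw.length, zz * wordEl elL (sw.getD n []) = wordEl elL (ph.getD n []) * zz := by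
  intro n hn
  have hn' : n < 16 := hn
  have h := List.all_eq_true.1 twist_ok (n / 2) (List.mem_range.2 (by omega))
  simp only [Bool.and_eq_true] at h
  obtain ⟨⟨hrel, hs⟩, hp⟩ := h
  have e := rel_word _ _ (Bool.and_eq_true_iff.2 hrel)
  rw [wordEl_append, wordEl_append, wordEl_append, wordEl_winv elL_inv] at e
  simp only [wordEl_cons elL, wordEl_nil elL, mul_one] at e
  rw [show elL 19 = zz⁻¹ from elL_inv 9] at e
  have e2 : wordEl elL (ph.getD (2 * (n / 2)) []) * zz = zz * wordEl elL (sw.getD (2 * (n / 2)) []) :=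
    calc wordEl elL (ph.getD (2 * (n / 2)) []) * zz
        = zz * (zz⁻¹ * wordEl elL (ph.getD (2 * (n / 2)) []) * zz * (wordEl elL (sw.getD (2 * (n / 2)) []))⁻¹) *
            wordEl elL (sw.getD (2 * (n / 2)) []) := by group
      _ = zz * wordEl elL (sw.getD (2 * (n / 2)) []) := by rw [e, mul_one]
  rcases Nat.mod_two_eq_zero_or_one n with h | h
  · have hn2 : 2 * (n / 2) = n := by omega
    rw [hn2] at e2
    exact e2.symm
  · have hn2 : 2 * (n / 2) + 1 = n := by omega
    rw [hn2] at hs hp
    rw [wordEl_inv_pair elL_inv (wordEl_reduce _) (wordEl_reduce _) hs (wordEl_reduce _),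
      wordEl_inv_pair elL_inv (wordEl_reduce _) (wordEl_reduce _) hp (wordEl_reduce _)]
    set S := wordEl elL (sw.getD (2 * (n / 2)) [])
    set P := wordEl elL (ph.getD (2 * (n / 2)) [])
    calc zz * S⁻¹ = P⁻¹ * (P * zz) * S⁻¹ := by group
      _ = P⁻¹ * (zz * S) * S⁻¹ := by rw [e2]
      _ = P⁻¹ * zz := by group

theorem hs_words : (lyHs.map fun h => (lyHSetup.wl lyHTab h).reverse) =
    (List.range 8).map fun j => ph.getD (2 * j) [] := by decide +kernel

theorem sw_okW : ((List.range 8).all fun j => (sw.getD (2 * j) []).all fun a => Nat.blt a 18) = true := by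
  decide +kernel

theorem zz_conj_stab {k : L} (hk : k ∈ lyHSetup.closureOf lyHs) : zz * toLy k * zz⁻¹ ∈ toLy.range := by
  have hle : lyHSetup.closureOf lyHs ≤ (toLy.range.comap (MulAut.conj zz).toMonoidHom).comap toLy := by
    rw [Setup.closureOf, Subgroup.closure_le]
    rintro _ ⟨h, hh, rfl⟩
    show zz * toLy (PresentedGroup.mk lyHSetup.rels h) * zz⁻¹ ∈ toLy.range
    have hm : (lyHSetup.wl lyHTab h).reverse ∈ (List.range 8).map fun j => ph.getD (2 * j) [] := by
      rw [← hs_words]; exact List.mem_map.2 ⟨h, hh, rfl⟩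
    obtain ⟨j, hj, hje⟩ := List.mem_map.1 hm
    rw [Setup.mk_eq_ev hTable.gens hTable.letters, ev_eq_wordEl, ← hje]
    have hj' := List.mem_range.1 hj
    have hS : OkW (sw.getD (2 * j) []) := fun a ha =>
      (by simpa using List.all_eq_true.1 (List.all_eq_true.1 sw_okW j hj) a ha)
    have hP : OkW (ph.getD (2 * j) []) := by
      intro a ha
      interval_cases j <;> simp [ph] at ha <;> omega
    rw [← wordEl_elL hP]
    have e : zz * wordEl elL (ph.getD (2 * j) []) * zz⁻¹ =
        wordEl elL ([0, 0] ++ sw.getD (2 * j) [] ++ [1, 1]) := by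
      have ht := twist (2 * j) (show 2 * j < 16 by omega)
      rw [wordEl_append, wordEl_append]
      simp only [wordEl_cons elL, wordEl_nil elL, mul_one]
      rw [show elL 1 = (elL 0)⁻¹ from elL_inv 0]
      calc zz * wordEl elL (ph.getD (2 * j) []) * zz⁻¹
          = zz * (wordEl elL (ph.getD (2 * j) []) * zz) * (zz * zz)⁻¹ := by group
        _ = zz * (zz * wordEl elL (sw.getD (2 * j) [])) * (zz * zz)⁻¹ := by rw [← ht]
        _ = (zz * zz) * wordEl elL (sw.getD (2 * j) []) * (zz * zz)⁻¹ := by group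
        _ = _ := by rw [zz_sq]; group
    rw [e, wordEl_elL (okW_append (okW_append (by intro a ha; simp at ha; omega) hS)
      (by intro a ha; simp at ha; omega))]
    exact ⟨_, rfl⟩
  exact hle hk

/-- `z` moves the stabiliser of the point `0` into the subgroup. -/
theorem stab_twist {v : List ℕ} (hv : OkW v) (h : StabCert.ev 19 tab v 0 = 0) :
    ∃ u, OkW u ∧ zz * wordEl elL v = wordEl elL u * zz := by
  obtain ⟨k, hk⟩ := zz_conj_stab (mem_stab_of_fix hv h)
  obtain ⟨u, hu, rfl⟩ := exists_word k
  refine ⟨u, hu, ?_⟩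
  rw [wordEl_elL hu, hk, wordEl_elL hv]
  group

/-- The relator word of a cycle certificate. -/
def certWord (c : ℕ × Bool × ℕ) : List ℕ :=
  let l := reduce (letters (Ly.extra.getD c.1 1))
  let w := substZ (bif c.2.1 then l else winv l)
  w.drop c.2.2 ++ w.take c.2.2

/-- The word of a cycle, read with `z`. -/
def cycleWord (W : List (Option (List ℕ))) : List ℕ := 18 :: W.reverse.flatMap fun o => o.getD [18]

/-- The check of one cycle. -/
def cycleOK (p : List (Option (List ℕ)) × (ℕ × Bool × ℕ)) : Bool :=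
  Nat.blt p.2.1 Ly.extra.length && reduce (cycleWord p.1) == reduce (certWord p.2)

theorem cycles_ok : (cycles.length == cycleCert.length && (cycles.zip cycleCert).all cycleOK) = true := by
  decide +kernel

theorem wordEl_certWord (c : ℕ × Bool × ℕ) (h : c.1 < Ly.extra.length) : wordEl elL (certWord c) = 1 := by
  have hl : wordEl elL (reduce (letters (Ly.extra.getD c.1 1))) = 1 := by
    rw [wordEl_reduce, rel_letters]
    rw [List.getD_eq_getElem _ _ h]
    exact List.getElem_mem _
  set w := substZ (bif c.2.1 then reduce (letters (Ly.extra.getD c.1 1))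
    else winv (reduce (letters (Ly.extra.getD c.1 1)))) with hw
  show wordEl elL (w.drop c.2.2 ++ w.take c.2.2) = 1
  have h1 : wordEl elL w = 1 := by
    rw [hw, wordEl_substZ]
    cases c.2.1 with
    | true => exact hl
    | false => rw [cond_false, wordEl_winv elL_inv, hl, inv_one]
  rw [← List.take_append_drop c.2.2 w, wordEl_append] at h1
  rw [wordEl_append]
  exact mul_eq_one_comm.1 h1

theorem wordEl_cycleWord : ∀ W : List (Option (List ℕ)),
    wordEl elL (W.flatMap fun o => o.getD [18]) = (W.map fun o => o.elim zz (wordEl elL)).prod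
  | [] => by simp [wordEl]
  | o :: W => by
    rw [List.flatMap_cons, wordEl_append, wordEl_cycleWord W, List.map_cons, List.prod_cons]
    cases o <;> simp [wordEl, zz]

theorem cycle : ∀ p < cycles.length,
    zz * ((cycles.getD p []).reverse.map fun o => o.elim zz (wordEl elL)).prod = 1 := by
  intro p hp
  have h := cycles_ok
  simp only [Bool.and_eq_true, beq_iff_eq] at h
  have hp' : p < cycleCert.length := h.1 ▸ hp
  have hz := List.all_eq_true.1 h.2 (cycles[p], cycleCert[p])
    (List.mem_of_getElem (i := p) (h := by simp [hp, hp']) (by simp; rfl))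
  simp only [cycleOK, Bool.and_eq_true, Nat.blt_eq] at hz
  rw [List.getD_eq_getElem _ _ hp, ← wordEl_cycleWord, ← wordEl_cons elL 18,
    show (18 :: (cycles[p]).reverse.flatMap fun o => o.getD [18]) = cycleWord cycles[p] from rfl,
    eq_of_reduce hz.2, wordEl_certWord _ hz.1]

/-- The derivation for `⟨a, b, c, d⟩ ≤ Ly`. -/
noncomputable def cfg : Cfg where
  w := 19
  tab := tab
  B := [0, 1, 3, 4]
  m := 18
  facts := facts
  fixes := fixes
  sw := sw
  ph := ph
  cycles := cycles

theorem okW_iff {v : List ℕ} : cfg.okW v = true ↔ OkW v := by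
  simp [Cfg.okW, cfg, OkW, List.all_eq_true]

/-- The representatives of the five classes. -/
noncomputable def pt : ℕ → Spor.Ly ⧸ lyH := HNPresented.point elL zz 18 facts base

theorem pt_zero : pt 0 = base := HNPresented.point_zero _ _ _ _ _

theorem sound : Sound cfg elL zz pt where
  inv := elL_inv
  eq := by
    intro v w h i
    simp only [Cfg.eqB, Bool.and_eq_true, List.all_eq_true, beq_iff_eq] at h
    obtain ⟨⟨hv, hw⟩, hB⟩ := h
    rw [wordEl_elL (okW_iff.1 hv), wordEl_elL (okW_iff.1 hw),
      eq_of_base (okW_iff.1 hv) (okW_iff.1 hw) hB]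
  twist := twist
  cycle := cycle

theorem defs_ok : (HNPresented.defsOK facts 4 && (List.range 4).all fun j =>
    (facts.getD j (0, [], 0, [])).2.1.all fun a => Nat.blt a 18) = true := by decide +kernel

theorem fixes_ok : ((List.range 9).all fun n =>
    (fixes.getD n (0, [])).1 == 0 && (fixes.getD n (0, [])).2.all fun a => Nat.blt a 18) = true := by
  decide +kernel

theorem run_ok : cfg.runOK items 4 9 = true := by decide +kernel

theorem holds : (∀ n < cfg.facts.length, FactHolds cfg elL zz pt n) ∧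
    ∀ n < cfg.fixes.length, FixHolds cfg elL pt n := by
  refine HNPresented.run_spec sound _ _ _ run_ok ?_ ?_
  · have h := defs_ok
    simp only [Bool.and_eq_true, List.all_eq_true, List.mem_range, Nat.blt_eq] at h
    exact HNPresented.point_fact cfg elL zz 18 base h.1 fun j hj a ha => Nat.ne_of_lt (h.2 j hj a ha)
  · intro n hn
    have h := fixes_ok
    simp only [List.all_eq_true, List.mem_range, Bool.and_eq_true, beq_iff_eq, Nat.blt_eq] at h
    obtain ⟨h1, h2⟩ := h n hn
    show wordEl elL (fixes.getD n (0, [])).2 • pt (fixes.getD n (0, [])).1 = pt (fixes.getD n (0, [])).1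
    rw [h1, pt_zero, wordEl_elL (show OkW _ from h2)]
    exact smul_base _

end Cfsg.Agent.Lyons
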