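import Cfsg.Agent.Lib.Lyons.Model
import Cfsg.Agent.Lib.LyPresented.KIso

/-!
# `⟨a, b, c, d⟩` in Ly is `G₂(5)` (helper11)

* `rep_num_unique` : a matrix has one packed number
* `wordLy_ne_one` : a word is nontrivial in Ly if its matrix is
* `gen_a_ne_one`, `toLy_inj`, `lyHEquiv`, `natCard_lyH`
-/

set_option autoImplicit false
set_option maxRecDepth 100000
set_option Elab.async false

open Cfsg

namespace Cfsg.Agent.Lyons

open Cfsg.Agent.LyPresented (IsRep)
open Cfsg.Agent.CosetEnum (pack_congr)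

theorem rep_num_unique {d C D : ℕ} {A : Matrix (Fin d) (Fin d) (ZMod 5)} (hC : IsRep d C A) (hD : IsRep d D A) :
    C = D := by
  obtain ⟨f, rfl, hf, hAf⟩ := hC
  obtain ⟨g, rfl, hg, hAg⟩ := hD
  refine pack_congr fun t ht => ?_
  have hd : 0 < d := Nat.pos_of_ne_zero fun h => by subst h; simp at ht
  have e := (hAf ⟨t / d, Nat.div_lt_of_lt_mul ht⟩ ⟨t % d, Nat.mod_lt _ hd⟩).symm.trans
    (hAg ⟨t / d, Nat.div_lt_of_lt_mul ht⟩ ⟨t % d, Nat.mod_lt _ hd⟩)
  simp only [Nat.div_add_mod] at e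
  rw [ZMod.natCast_eq_natCast_iff', Nat.mod_eq_of_lt (hf t ht), Nat.mod_eq_of_lt (hg t ht)] at e
  exact e

theorem wordLy_ne_one {w : List ℕ} (hw : w.all (fun q => Nat.blt q 20) = true)
    (h : Nat.beq (pword w) pone = false) : wordLy w ≠ 1 := by
  intro e
  have h1 := phi_ev w fun q hq => Nat.blt_eq.mp (List.all_eq_true.mp hw q hq)
  rw [e, map_one, Units.val_one] at h1
  have h2 : IsRep 111 (pword w) (1 : M111) := by rw [h1]; exact pword_rep w
  have h3 := CosetEnum.beq_iff.mpr (rep_num_unique h2 pone_rep)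
  rw [h] at h3
  exact Bool.false_ne_true h3

theorem gen_a_ne_one : (PresentedGroup.of (LyPresented.incl .a) : Spor.Ly) ≠ 1 := by
  have h := wordLy_ne_one (w := [0]) (by decide +kernel) (by decide +kernel)
  simpa [wordLy, letterGen, LyPresented.incl] using h

/-- The map from the group of relators (1)-(44) is injective. -/
theorem toLy_inj : Function.Injective LyPresented.toLy := LyPresented.toLy_injective gen_a_ne_one

/-- `⟨a, b, c, d⟩ ≅ G₂(5)`. -/
noncomputable def lyHEquiv : LyPresented.lyH ≃* ↥(Lie.chevG2.group (ZMod 5)) :=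
  LyPresented.lyHIso gen_a_ne_one

theorem natCard_lyH : Nat.card LyPresented.lyH = 5859000000 := LyPresented.card_lyH gen_a_ne_one

end Cfsg.Agent.Lyons
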