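import Cfsg.Prelude.Def_Spor_Ly
import Cfsg.Agent.Lib.CosetEnum.SetupLyH
import Cfsg.Agent.Lib.HNPresented.Engine

/-!
# The Lyons group through twenty letters

* `gw`, `elL` : every generator as a word in `a, b, c, c2, c3, c4, c5, e, d, z` and their inverses
* `of_eq_gw`, `mk_eq_letters`, `rel_letters` : the presentation read on letters
* `reduce`, `wordEl_reduce`, `substZ`, `wordEl_substZ` : free reduction and the removal of `z⁻¹`
* `toLy` : the map from the group of the first forty-four relations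
-/

set_option autoImplicit false
set_option maxRecDepth 100000

namespace Cfsg.Agent.Lyons

open Cfsg Cfsg.Spor
open Cfsg.Agent.StabCert
open Cfsg.Agent.HNPresented (winv wordEl_winv wordEl_cons wordEl_nil)

/-- The relators of Ly. -/
abbrev lyRels : Set (FreeGroup Ly.Gen) := coxRelators Ly.edges ∪ {r | r ∈ Ly.extra}

/-- The generator of a pair of letters. -/
def pairGen : ℕ → Option Ly.Gen
  | 0 => some .a | 1 => some .b | 2 => some .c | 3 => some .c2 | 4 => some .c3 | 5 => some .c4
  | 6 => some .c5 | 7 => some .e | 8 => some .d | 9 => some .z | _ => none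

/-- The element of a pair of letters. -/
noncomputable def pairEl (n : ℕ) : Spor.Ly :=
  match pairGen n with
  | some x => PresentedGroup.of x
  | none => 1

/-- The letters. -/
noncomputable def elL (a : ℕ) : Spor.Ly := if a % 2 = 0 then pairEl (a / 2) else (pairEl (a / 2))⁻¹

theorem elL_inv (n : ℕ) : elL (2 * n + 1) = (elL (2 * n))⁻¹ := by
  simp [elL, Nat.add_mul_div_left, show (2 * n + 1) % 2 = 1 by omega, show (2 * n + 1) / 2 = n by omega]

/-- The expansion of a generator in the twenty letters. -/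
def gw : Ly.Gen → List ℕ
  | .a => [0]
  | .b => [2]
  | .c => [4]
  | .c2 => [6]
  | .c3 => [8]
  | .c4 => [10]
  | .c5 => [12]
  | .e => [14]
  | .d => [16]
  | .z => [18]
  | .c1 => [4]
  | .a1 => [0]
  | .a2 => [2, 0, 3]
  | .a3 => [2, 2, 0, 3, 3]
  | .a4 => [3, 3, 0, 2, 2]
  | .u => [0, 0]
  | .x23 => [16]
  | .x24 => [17]
  | .x25 => [2, 2, 1, 3, 1, 2, 2, 5, 0, 4, 1, 5, 16, 5, 2, 2, 1, 4, 2]
  | .x29 => [0, 2, 1, 2, 2, 1, 2, 2, 5, 0, 4, 2, 4, 3, 16, 4, 3, 3, 16, 4, 2, 4]
  | .x47 => [5, 17, 1, 5, 1, 2, 5, 17]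
  | .x96 => [2, 16]
  | .x129 => [17, 3]
  | .x162 => [1, 3, 1, 2, 5, 3, 0, 5, 2, 0]
  | .x163 => [3, 3, 0, 4, 1, 2, 4, 2]
  | .x164 => [1, 3, 1, 4, 0, 2, 0]
  | .x165 => [3, 1, 2, 4, 3, 0, 2]
  | .x166 => [2, 2, 1, 3, 4, 2, 0, 4, 3, 3, 5]
  | .x167 => [1, 1, 1]
  | .x168 => [2, 1, 3, 1, 1]
  | .x169 => [0, 2, 2, 0, 3, 3, 1]
  | .x364 => [1, 16, 3, 5, 1, 2, 5, 17, 2, 5, 3, 1, 5, 0, 3, 0, 2, 0, 3]
  | .x365 => [0, 3, 3, 1, 4, 2, 5, 2, 1, 5, 5, 16, 4, 0, 4, 1, 4, 3, 17]
  | .x366 => [2, 0, 3, 1, 3, 3, 1, 3, 4, 2, 2, 4, 2, 16, 4, 3, 3, 16, 4, 2, 4]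
  | .x367 => [5, 3, 5, 17, 2, 2, 5, 17, 3, 5, 3, 3, 5, 2, 0, 2, 2, 0, 2, 1, 3]
  | .x368 => [1, 5, 17, 0, 5, 3, 0, 5, 17, 1, 5, 0, 4, 3, 3, 5, 3, 1, 3, 3]
  | .x369 => [1, 5, 17, 2, 1, 3, 5, 17, 2, 1, 3, 5, 3, 0, 3, 3, 0, 3]
  | .x370 => [17, 0, 4, 2, 4, 1, 5, 17, 0, 3, 1, 4, 1, 3, 3, 1, 2, 1]
  | .x371 => [5, 1, 4, 2, 5, 17, 4, 1, 4, 0, 4, 3, 1, 3, 1, 2]

/-- The generators that are letters. -/
def baseGens : List Ly.Gen := [.a, .b, .c, .c2, .c3, .c4, .c5, .e, .d, .z]

/-- The defining relator of each other generator. -/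
def defLines : List (Ly.Gen × ℕ) := [(.c1, 5), (.a1, 44), (.a2, 45), (.a3, 46), (.a4, 47), (.u, 48), (.x23, 49), (.x24, 50), (.x25, 51), (.x29, 52), (.x47, 53), (.x96, 54), (.x129, 55), (.x162, 56), (.x163, 57), (.x164, 58), (.x165, 59), (.x166, 60), (.x167, 61), (.x168, 62), (.x169, 63), (.x364, 64), (.x365, 65), (.x366, 66), (.x367, 67), (.x368, 68), (.x369, 69), (.x370, 70), (.x371, 71)]

/-- The letters of a word in the generators. -/
def letters (r : FreeGroup Ly.Gen) : List ℕ :=
  r.toWord.flatMap fun p => bif p.2 then gw p.1 else winv (gw p.1)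

/-- The partner of a letter. -/
def flip2 (a : ℕ) : ℕ := if a % 2 == 0 then a + 1 else a - 1

/-- Free reduction. -/
def reduce : List ℕ → List ℕ
  | [] => []
  | a :: l =>
    match reduce l with
    | [] => [a]
    | b :: m => bif b == flip2 a then m else a :: b :: m

/-- The check of one defining relator. -/
def defStep (done : List Ly.Gen) (p : Ly.Gen × ℕ) : Bool :=
  match (Ly.extra.getD p.2 1).toWord with
  | (y, true) :: t => decide (y = p.1) && (t.all fun q => done.contains q.1) &&
      reduce (gw p.1) == reduce (winv (t.flatMap fun q => bif q.2 then gw q.1 else winv (gw q.1)))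
  | _ => false

/-- The checks of the defining relators, one after the other. -/
def defChecks : List (Ly.Gen × ℕ) → List Ly.Gen → Bool
  | [], done => [Ly.Gen.a, .b, .c, .d, .z, .e, .a1, .a2, .a3, .a4, .c1, .c2, .c3, .c4, .c5, .u, .x23, .x24, .x25,
      .x29, .x47, .x96, .x129, .x162, .x163, .x164, .x165, .x166, .x167, .x168, .x169, .x364, .x365, .x366,
      .x367, .x368, .x369, .x370, .x371].all fun x => done.contains x
  | p :: l, done => Nat.blt p.2 Ly.extra.length && defStep done p && defChecks l (p.1 :: done)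

theorem flip2_spec (a : ℕ) : elL (flip2 a) = (elL a)⁻¹ := by
  rcases Nat.mod_two_eq_zero_or_one a with h | h
  · obtain ⟨n, rfl⟩ : ∃ n, a = 2 * n := ⟨a / 2, by omega⟩
    rw [flip2, if_pos (by simp), elL_inv]
  · obtain ⟨n, rfl⟩ : ∃ n, a = 2 * n + 1 := ⟨a / 2, by omega⟩
    rw [flip2, if_neg (by simp [h]), elL_inv, inv_inv, Nat.add_sub_cancel]

theorem wordEl_reduce : ∀ l : List ℕ, wordEl elL (reduce l) = wordEl elL l
  | [] => rfl
  | a :: l => by
    have h := wordEl_reduce l
    rw [wordEl_cons elL a l, ← h, reduce]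
    cases reduce l with
    | nil => simp [wordEl]
    | cons b m =>
      cases hb : (b == flip2 a) with
      | true =>
        simp only [hb, cond_true]
        rw [wordEl_cons elL b m, beq_iff_eq.1 hb, flip2_spec, mul_inv_cancel_left]
      | false =>
        simp only [hb, cond_false]
        rw [wordEl_cons elL a (b :: m)]

theorem eq_of_reduce {v w : List ℕ} (h : (reduce v == reduce w) = true) : wordEl elL v = wordEl elL w := by
  rw [← wordEl_reduce v, beq_iff_eq.1 h, wordEl_reduce w]

theorem wordEl_expand {M : Type*} [Group M] (el : ℕ → M) (hinv : ∀ n, el (2 * n + 1) = (el (2 * n))⁻¹)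
    (g : Ly.Gen → List ℕ) (f : Ly.Gen → M) : ∀ t : List (Ly.Gen × Bool), (∀ q ∈ t, f q.1 = wordEl el (g q.1)) →
      wordEl el (t.flatMap fun q => bif q.2 then g q.1 else winv (g q.1)) =
        (t.map fun q => bif q.2 then f q.1 else (f q.1)⁻¹).prod
  | [], _ => by simp [wordEl]
  | q :: t, h => by
    rw [List.flatMap_cons, wordEl_append, List.map_cons, List.prod_cons,
      wordEl_expand el hinv g f t fun q hq => h q (List.mem_cons_of_mem _ hq)]
    congr 1
    obtain ⟨x, b⟩ := q
    cases b with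
    | true => exact (h _ List.mem_cons_self).symm
    | false => rw [cond_false, cond_false, wordEl_winv hinv, h _ List.mem_cons_self]

theorem rel_one {r : FreeGroup Ly.Gen} (h : r ∈ Ly.extra) : PresentedGroup.mk lyRels r = 1 :=
  PresentedGroup.one_of_mem (Or.inr h)

theorem mk_toWord (r : FreeGroup Ly.Gen) : PresentedGroup.mk lyRels r =
    (r.toWord.map fun q => bif q.2 then (PresentedGroup.of q.1 : Spor.Ly) else (PresentedGroup.of q.1)⁻¹).prod := by
  have e : PresentedGroup.mk lyRels = FreeGroup.lift (fun x => (PresentedGroup.of x : Spor.Ly)) :=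
    FreeGroup.ext_hom (f := PresentedGroup.mk lyRels)
      (g := FreeGroup.lift fun x => (PresentedGroup.of x : Spor.Ly)) (fun x => by simp [PresentedGroup.of])
  conv_lhs => rw [← FreeGroup.mk_toWord (x := r), e, FreeGroup.lift_mk]

theorem good_of_checks : ∀ (l : List (Ly.Gen × ℕ)) (done : List Ly.Gen), defChecks l done = true →
    (∀ x ∈ done, (PresentedGroup.of x : Spor.Ly) = wordEl elL (gw x)) →
      ∀ x : Ly.Gen, (PresentedGroup.of x : Spor.Ly) = wordEl elL (gw x)
  | [], done, h, hd => fun x => hd x (by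
      simp only [defChecks, List.all_cons, List.all_nil, Bool.and_eq_true, List.contains_iff_mem] at h
      cases x <;> simp only [h])
  | p :: l, done, h, hd => by
    simp only [defChecks, Bool.and_eq_true, Nat.blt_eq] at h
    refine good_of_checks l _ h.2 fun x hx => ?_
    rcases List.mem_cons.1 hx with rfl | hx
    swap
    · exact hd x hx
    obtain ⟨hlen, hs⟩ := h.1
    have hmem : Ly.extra.getD p.2 1 ∈ Ly.extra := by
      rw [List.getD_eq_getElem _ _ hlen]; exact List.getElem_mem _
    have hr := rel_one hmem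
    rw [mk_toWord] at hr
    unfold defStep at hs
    split at hs
    · rename_i y t ht
      simp only [Bool.and_eq_true, decide_eq_true_eq, List.all_eq_true, List.contains_iff_mem] at hs
      obtain ⟨⟨rfl, hall⟩, hred⟩ := hs
      rw [ht, List.map_cons, List.prod_cons, cond_true] at hr
      rw [eq_inv_of_mul_eq_one_left hr, eq_of_reduce hred, wordEl_winv elL_inv,
        wordEl_expand elL elL_inv gw _ t fun q hq => hd q.1 (hall q hq)]
    · exact absurd hs Bool.false_ne_true

theorem def_checks : defChecks defLines baseGens = true := by decide +kernel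

/-- Every generator is the value of its word. -/
theorem of_eq_gw (x : Ly.Gen) : (PresentedGroup.of x : Spor.Ly) = wordEl elL (gw x) := by
  refine good_of_checks _ _ def_checks (fun y hy => ?_) x
  simp only [baseGens, List.mem_cons, List.not_mem_nil, or_false] at hy
  rcases hy with rfl | rfl | rfl | rfl | rfl | rfl | rfl | rfl | rfl | rfl <;>
    simp [gw, wordEl, elL, pairEl, pairGen]

theorem mk_eq_letters (r : FreeGroup Ly.Gen) : PresentedGroup.mk lyRels r = wordEl elL (letters r) := by
  rw [mk_toWord, letters, wordEl_expand elL elL_inv gw _ _ fun q _ => of_eq_gw q.1]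

theorem rel_letters {r : FreeGroup Ly.Gen} (h : r ∈ Ly.extra) : wordEl elL (letters r) = 1 := by
  rw [← mk_eq_letters, rel_one h]

/-- The generators of the subgroup. -/
def incl : LyH.Gen → Ly.Gen
  | .a => .a | .b => .b | .c => .c | .c2 => .c2 | .c3 => .c3 | .c4 => .c4 | .c5 => .c5 | .e => .e | .d => .d

theorem incl_check : (LyH.extra.all fun r => (Ly.extra.take 44).any fun s =>
    reduce (letters (FreeGroup.map incl r)) == reduce (letters s)) = true := by decide +kernel

theorem incl_rels {r : FreeGroup LyH.Gen} (h : r ∈ CosetEnum.lyHSetup.rels) :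
    PresentedGroup.mk lyRels (FreeGroup.map incl r) = 1 := by
  have h' : r ∈ LyH.extra := by
    rcases h with ⟨x, hx, -⟩ | h
    · simp [CosetEnum.lyHSetup, coxNodes] at hx
    · exact h
  obtain ⟨s, hs, he⟩ := List.any_eq_true.1 (List.all_eq_true.1 incl_check r h')
  rw [mk_eq_letters, eq_of_reduce he, rel_letters (List.mem_of_mem_take hs)]

/-- The map to Ly. -/
noncomputable def toLy : CosetEnum.lyHSetup.G →* Spor.Ly :=
  PresentedGroup.toGroup (f := fun g => (PresentedGroup.of (incl g) : Spor.Ly)) fun r hr => by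
    have h : FreeGroup.lift (fun g => (PresentedGroup.of (incl g) : Spor.Ly)) r
        = PresentedGroup.mk lyRels (FreeGroup.map incl r) :=
      DFunLike.congr_fun (FreeGroup.ext_hom (f := FreeGroup.lift _)
        (g := (PresentedGroup.mk lyRels).comp (FreeGroup.map incl)) fun a => by
          simp [PresentedGroup.of]) r
    rw [h]
    exact incl_rels hr

theorem toLy_of (g : LyH.Gen) : toLy (PresentedGroup.of g) = (PresentedGroup.of (incl g) : Spor.Ly) :=
  PresentedGroup.toGroup.of _

theorem toLy_el : ∀ a < 18, toLy (CosetEnum.lyHSetup.el a) = elL a := by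
  intro a ha
  interval_cases a <;>
    first
      | exact (toLy_of _).trans rfl
      | exact (map_inv toLy _).trans ((congrArg (·⁻¹) (toLy_of _)).trans rfl)

/-- `z⁻¹` written as `a⁻² z`. -/
def substZ (l : List ℕ) : List ℕ := l.flatMap fun a => if a == 19 then [1, 1, 18] else [a]

end Cfsg.Agent.Lyons
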