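import Cfsg.Agent.Lib.CosetEnum.Order

/-!
# Chains and covers of basic orbits

* `chain_mem` : every level of a checked chain is an orbit certificate whose words fix the earlier roots
* `chainSize_mul_le` : the order bound from a chain, sharpened by a subgroup fixing all roots
* `forest_induction`, `mergeOrbits` : a spanning forest of all points under some words
-/

set_option autoImplicit false

namespace Cfsg.Agent.Lyons

open Cfsg.Agent.CosetEnum Cfsg.Agent.CosetEnum.Data

variable {D : Data}

theorem orbit_words_lt {O : OrbitData} (h : D.reachOK O = true) : ∀ w ∈ O.words, ∀ a ∈ w, a < D.k := by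
  intro w hw
  obtain ⟨j, hj, rfl⟩ := List.getElem_of_mem hw
  unfold Data.reachOK at h
  simp only [Bool.and_eq_true, beq_iff, List.all_eq_true] at h
  have := h.2.2.2.1 (O.words[j], O.sels[j]'(by have := h.1; omega))
    (List.mem_of_getElem (i := j) (h := by simp; have := h.1; omega) (by simp))
  unfold Data.orbSelOK at this
  simp only [Bool.and_eq_true, List.all_eq_true, Nat.blt_eq] at this
  exact this.1

theorem chain_mem (hp : D.PermFacts) : ∀ (l : List OrbitData) (roots : List ℕ),
    Setup.chainOK D l roots = true → (∀ b ∈ roots, b < D.n) →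
      ∀ O ∈ l, D.reachOK O = true ∧ ∀ w ∈ O.words, ∀ b ∈ roots, D.tw w b = b
  | [], _, _, _ => fun _ hO => absurd hO List.not_mem_nil
  | O :: l, roots, h, hroots => by
    change (D.reachOK O && ((O.words.all fun w => roots.all fun b => Nat.beq (lane D.B (D.trace w) b) b) &&
      Setup.chainOK D l (O.root :: roots))) = true at h
    simp only [Bool.and_eq_true, List.all_eq_true, beq_iff] at h
    obtain ⟨hreach, hfix, hrest⟩ := h
    obtain ⟨hrootmem, -, -⟩ := orbit_reach hp hreach
    intro O' hO'
    rcases List.mem_cons.1 hO' with rfl | hO'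
    · refine ⟨hreach, fun w hw b hb => ?_⟩
      have hwk := orbit_words_lt hreach w hw
      have := hfix w hw b hb
      rwa [trace_eq hp w hwk, lane_pack hp.hB
        (fun j hj => self_lt_two_pow_of_lt (by have := hp.hlg; omega) (tw_lt hp w hwk j hj))
        (lt_of_lt_of_le (hroots b hb) hp.hnN)] at this
    · have := chain_mem hp l (O.root :: roots) hrest (fun b hb => by
        rcases List.mem_cons.1 hb with rfl | hb
        · exact hrootmem.1
        · exact hroots b hb) O' hO'
      exact ⟨this.1, fun w hw b hb => this.2 w hw b (List.mem_cons_of_mem _ hb)⟩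

/-- A chain of orbits of words in `P`, and a subgroup of `P` fixing all their roots. -/
theorem chainSize_mul_le (hp : D.PermFacts) : ∀ (l : List OrbitData) (roots : List ℕ),
    Setup.chainOK D l roots = true → (∀ b ∈ roots, b < D.n) →
    ∀ (P R : Subgroup (Equiv.Perm (Fin D.n))), (∀ O ∈ l, ∀ w ∈ O.words, ev (Setup.perm D hp) w ∈ P) →
      R ≤ P → (∀ g ∈ R, ∀ O ∈ l, ∀ i : Fin D.n, (i : ℕ) = O.root → g i = i) →
        Setup.chainSize l * Nat.card R ≤ Nat.card P
  | [], _, _, _, P, R, _, hR, _ => by
    rw [Setup.chainSize, Nat.one_mul]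
    exact Nat.card_le_card_of_injective _ (Subgroup.inclusion_injective hR)
  | O :: l, roots, h, hroots, P, R, hP, hR, hRfix => by
    have hmem := chain_mem hp _ _ h hroots
    have hreach := (hmem O List.mem_cons_self).1
    have hwk := orbit_words_lt hreach
    obtain ⟨hrootmem, hcard, hind⟩ := orbit_reach hp hreach
    change (D.reachOK O && ((O.words.all fun w => roots.all fun b => Nat.beq (lane D.B (D.trace w) b) b) &&
      Setup.chainOK D l (O.root :: roots))) = true at h
    simp only [Bool.and_eq_true] at h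
    obtain ⟨-, -, hrest⟩ := h
    set r : Fin D.n := ⟨O.root, hrootmem.1⟩
    have hroots' : ∀ b ∈ O.root :: roots, b < D.n := fun b hb => by
      rcases List.mem_cons.1 hb with rfl | hb
      · exact hrootmem.1
      · exact hroots b hb
    have horbit : ∀ i ∈ Data.maskSet D O, ∃ x ∈ MulAction.orbit P r, ((x : Fin D.n) : ℕ) = i := by
      refine hind ⟨r, MulAction.mem_orbit_self r, rfl⟩ fun w hw i hi => ?_
      rintro ⟨x, hx, rfl⟩
      refine ⟨ev (Setup.perm D hp) w x, ?_, Setup.ev_perm hp w (hwk w hw) x⟩
      exact MulAction.mem_orbit_of_mem_orbit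
        (⟨ev (Setup.perm D hp) w, hP O List.mem_cons_self w hw⟩ : P) hx
    have horb : O.size ≤ Nat.card (MulAction.orbit P r) := by
      have hsub : Data.maskSet D O ⊆ (fun x : Fin D.n => (x : ℕ)) '' MulAction.orbit P r := fun i hi => by
        obtain ⟨x, hx, e⟩ := horbit i hi
        exact ⟨x, hx, e⟩
      rw [← hcard, Nat.card_coe_set_eq, ← Set.ncard_image_of_injective _ Fin.val_injective]
      exact Set.ncard_le_ncard hsub (Set.toFinite _)
    let Q : Subgroup (Equiv.Perm (Fin D.n)) := P ⊓ MulAction.stabilizer (Equiv.Perm (Fin D.n)) r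
    have hmem' := chain_mem hp l _ hrest hroots'
    have hQ := chainSize_mul_le hp l (O.root :: roots) hrest hroots' Q R
      (fun O' hO' w hw => ⟨hP O' (List.mem_cons_of_mem _ hO') w hw, Fin.ext (by
        show (ev (Setup.perm D hp) w r : ℕ) = O.root
        rw [Setup.ev_perm hp w (orbit_words_lt (hmem' O' hO').1 w hw)]
        exact (hmem' O' hO').2 w hw O.root List.mem_cons_self)⟩)
      (fun g hg => ⟨hR hg, hRfix g hg O List.mem_cons_self r rfl⟩)
      (fun g hg O' hO' => hRfix g hg O' (List.mem_cons_of_mem _ hO'))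
    have hstab : Nat.card Q ≤ Nat.card (MulAction.stabilizer P r) := by
      refine Nat.card_le_card_of_injective (fun q => ⟨⟨q.1, q.2.1⟩, q.2.2⟩) fun q q' h => ?_
      exact Subtype.ext (congrArg (fun x : MulAction.stabilizer P r => x.1.1) h)
    show O.size * Setup.chainSize l * Nat.card R ≤ Nat.card P
    calc O.size * Setup.chainSize l * Nat.card R = O.size * (Setup.chainSize l * Nat.card R) := Nat.mul_assoc _ _ _
      _ ≤ Nat.card (MulAction.orbit P r) * Nat.card (MulAction.stabilizer P r) :=
          Nat.mul_le_mul horb (hQ.trans hstab)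
      _ = Nat.card P := by
          rw [← Nat.card_prod]
          exact Nat.card_congr (MulAction.orbitProdStabilizerEquivGroup P r)

/-- A spanning forest: one selection for each word, depths, and the roots. -/
structure ForestData where
  words : List (List ℕ)
  sels : List ℕ
  depth : ℕ
  roots : List ℕ

/-- The check of one selection: the depth drops along the word. -/
noncomputable def dropOK (D : Data) (depth : ℕ) (p : List ℕ × ℕ) : Bool :=
  List.all p.1 (fun a => Nat.blt a D.k) && force p.2 fun m =>
    Nat.beq (Nat.land m D.one) m &&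
      Nat.beq (Nat.land m (vlt D.B D.one (D.pull (D.winv p.1) depth) depth)) m

/-- The union of a list of masks. -/
noncomputable def lorAll (l : List ℕ) : ℕ := l.foldr Nat.lor 0

/-- The selections and the roots cover all points. -/
noncomputable def forestOK (D : Data) (F : ForestData) : Bool :=
  Nat.beq F.sels.length F.words.length && (D.guardOK F.depth &&
    ((F.words.zip F.sels).all (dropOK D F.depth) &&
      Nat.beq (Nat.lor (lorAll F.sels) (lorAll (F.roots.map fun r => Nat.shiftLeft 1 (Nat.mul r D.B))))
        (Nat.land D.one (Nat.sub (Nat.shiftLeft 1 (Nat.mul D.n D.B)) 1))))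

theorem exists_mem_of_testBit : ∀ (l : List ℕ) (k : ℕ), (lorAll l).testBit k = true →
    ∃ m ∈ l, m.testBit k = true
  | [], k, h => by simp [lorAll] at h
  | m :: l, k, h => by
    change (m ||| lorAll l).testBit k = true at h
    rw [Nat.testBit_lor, Bool.or_eq_true] at h
    rcases h with h | h
    · exact ⟨m, List.mem_cons_self, h⟩
    · obtain ⟨m', hm', h'⟩ := exists_mem_of_testBit l k h
      exact ⟨m', List.mem_cons_of_mem _ hm', h'⟩

theorem forest_induction (hp : D.PermFacts) {F : ForestData} (h : forestOK D F = true) {P : ℕ → Prop}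
    (h0 : ∀ r ∈ F.roots, P r) (hstep : ∀ w ∈ F.words, ∀ i < D.n, P i → P (D.tw w i)) :
    ∀ i < D.n, P i := by
  unfold forestOK at h
  simp only [Bool.and_eq_true, beq_iff, List.all_eq_true] at h
  obtain ⟨hlen, hg, hall, hfull⟩ := h
  have hB := hp.hB
  obtain ⟨hdeq, hdb⟩ := guard_spec hp hg
  have hone : D.one = pack D.B (2 ^ D.lg) (fun _ => 1) := rep_eq _ _
  have h1 : ∀ i < 2 ^ D.lg, (fun _ : ℕ => 1) i < 2 ^ D.B := fun i _ => Nat.one_lt_two_pow (by omega)
  have hsel : ∀ m ∈ F.sels, ∀ i < D.n, m.testBit (i * D.B) = true → ∃ w ∈ F.words, ∃ j < D.n,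
      D.tw w j = i ∧ lane D.B F.depth j < lane D.B F.depth i := by
    intro m hm i hi hb
    obtain ⟨c, hc, rfl⟩ := List.getElem_of_mem hm
    have hc' : c < F.words.length := hlen ▸ hc
    have hwm := hall (F.words[c], F.sels[c])
      (List.mem_of_getElem (i := c) (h := by simp [hc, hc']) (by simp))
    unfold dropOK at hwm
    rw [force_eq] at hwm
    simp only [Bool.and_eq_true, beq_iff, List.all_eq_true, Nat.blt_eq] at hwm
    obtain ⟨hw, h1', h2⟩ := hwm
    change F.sels[c] &&& D.one = F.sels[c] at h1'
    rw [hone] at h1' h2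
    obtain ⟨hp1, h01⟩ := mask_zero_one hB h1'
    have hiN : i < 2 ^ D.lg := lt_of_lt_of_le hi hp.hnN
    have hi1 : lane D.B F.sels[c] i = 1 := by
      rcases h01 i hiN with h0 | h0
      · rw [hp1, testBit_pack hB (fun i _ => lane_lt _ _ i), Nat.mul_div_cancel _ hB, h0] at hb
        simp at hb
      · exact h0
    have hdB : ∀ j < 2 ^ D.lg, lane D.B F.depth j < 2 ^ D.B := fun j _ => lane_lt _ _ _
    have htw := tw_lt hp _ (winv_mem hp hw)
    rw [hdeq, pull_eq hp _ (winv_mem hp hw) _ hdB, vlt_eq hB (fun j hj => hdb _ (htw j hj)) hdb, hp1] at h2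
    have hb' : ∀ j < 2 ^ D.lg,
        (if lane D.B F.depth (D.tw (D.winv F.words[c]) j) < lane D.B F.depth j then 1 else 0) < 2 ^ D.B :=
      fun j _ => by
        have := Nat.two_pow_pos (D.B - 1)
        have := half_lt hB
        split <;> omega
    have h3 : lane D.B F.sels[c] i &&&
        (if lane D.B F.depth (D.tw (D.winv F.words[c]) i) < lane D.B F.depth i then 1 else 0) =
          lane D.B F.sels[c] i :=
      pack_inj hB (fun j _ => lt_of_le_of_lt Nat.and_le_left (lane_lt _ _ j)) (fun j _ => lane_lt _ _ j)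
        ((pack_land hB (fun j _ => lane_lt _ _ j) hb').symm.trans h2) i hiN
    rw [hi1] at h3
    refine ⟨_, List.getElem_mem hc', D.tw (D.winv F.words[c]) i, tw_lt_n hp _ (winv_mem hp hw) i hi,
      tw_winv hp hw i hiN, ?_⟩
    by_contra hn
    rw [if_neg hn] at h3
    simp at h3
  suffices H : ∀ d, ∀ i < D.n, lane D.B F.depth i = d → P i from fun i hi => H _ i hi rfl
  intro d
  induction d using Nat.strong_induction_on with
  | _ d ih =>
    intro i hi hd
    have hbit : (lorAll F.sels ||| lorAll (F.roots.map fun r => 1 <<< (r * D.B))).testBit (i * D.B) = true := by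
      change lorAll F.sels ||| lorAll (F.roots.map fun r => 1 <<< (r * D.B)) =
        D.one &&& (1 <<< (D.n * D.B) - 1) at hfull
      rw [hfull, Nat.one_shiftLeft, Nat.testBit_land, Nat.testBit_two_pow_sub_one, hone, testBit_pack hB h1]
      simp [Nat.mul_div_cancel _ hB, lt_of_lt_of_le hi hp.hnN, Nat.mul_lt_mul_of_pos_right hi hB]
    rw [Nat.testBit_lor, Bool.or_eq_true] at hbit
    rcases hbit with hbit | hbit
    · obtain ⟨m, hm, hmb⟩ := exists_mem_of_testBit _ _ hbit
      obtain ⟨w, hw, j, hj, rfl, hlt⟩ := hsel m hm i hi hmb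
      exact hstep w hw j hj (ih _ (hd ▸ hlt) j hj rfl)
    · obtain ⟨m, hm, hmb⟩ := exists_mem_of_testBit _ _ hbit
      obtain ⟨r, hr, rfl⟩ := List.mem_map.1 hm
      rw [Nat.one_shiftLeft, Nat.testBit_two_pow, decide_eq_true_eq] at hmb
      exact Nat.eq_of_mul_eq_mul_right hB hmb ▸ h0 r hr

/-- One forest from the certificates of several orbits under the same words. -/
noncomputable def mergeOrbits (B : ℕ) (words : List (List ℕ)) (l : List OrbitData) (roots : List ℕ) :
    ForestData where
  words := words
  sels := l.foldr (fun O r => List.zipWith Nat.lor O.sels r) (List.replicate words.length 0)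
  depth := lorAll (l.map fun O => Nat.land O.depth (Nat.sub (Nat.shiftLeft O.mask B) O.mask))
  roots := roots

end Cfsg.Agent.Lyons
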