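import Cfsg.Agent.Lib.CosetEnum.Index
import Cfsg.Agent.Lib.CosetEnum.BoundLyH
import Cfsg.Agent.Lib.CosetEnum.BaseLyH
import Cfsg.Agent.Lib.Lyons.TabData
import Cfsg.Agent.Lib.Lyons.Tower
import Cfsg.Agent.Lib.Lyons.Subst

/-!
# The group of the first forty-four relators, through its table on 19530 points

* `hTable`, `rho`, `rho_injective`, `card_L` : the representation
* `rho_word` : words are evaluated through the packed tables
* `eq_of_base` : equality is decided on the points `0, 1, 3, 4`
* `exists_word`, `mem_stab_of_fix` : letters generate; the stabiliser of the point `0`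
* `wordEl_elL` : words in Ly come from this group
-/

set_option autoImplicit false
set_option maxRecDepth 100000
set_option Elab.async false

namespace Cfsg.Agent.Lyons

open Cfsg.Agent.CosetEnum Cfsg.Agent.StabCert
open Cfsg.Agent.HNPresented (winv wordEl_winv wordEl_cons wordEl_nil)

/-- The group of the first forty-four relators. -/
abbrev L : Type := lyHSetup.G

open Cfsg.Agent.LyH in
/-- Generators of the stabiliser of the point `0`. -/
def lyHs : List (FreeGroup LyH.Gen) := [c, c2, c3, c4, c5, a, b * a * b⁻¹, b ^ 2 * a * (b ^ 2)⁻¹]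

theorem hTable_ok : Setup.tableOK lyHSetup lyHTab lyHs [] = true := by decide +kernel

theorem hTable : Setup.Table lyHSetup lyHTab lyHs :=
  Setup.Table.mk' lyHSetup_gens lyHTab_check hTable_ok fun _ h => absurd h List.not_mem_nil

/-- The permutation representation. -/
noncomputable def rho : L →* Equiv.Perm (Fin lyHTab.n) :=
  Setup.hom hTable.gens hTable.letters hTable.perm hTable.rels

theorem chain_ok : Setup.chainOK lyHTab lyHTab_chain [] = true ∧ Setup.chainSize lyHTab_chain = 5859000000 := by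
  have h := lyHTab_chain_check
  simp only [Bool.and_eq_true] at h
  exact ⟨h.1, Nat.eq_of_beq_eq_true h.2⟩

theorem card_L : Nat.card L = 5859000000 ∧ Function.Injective rho :=
  Setup.card_eq_of_bounds hTable.gens hTable.letters hTable.perm hTable.rels lyHTab_chain chain_ok.1
    lyH_card_le chain_ok.2

theorem rho_injective : Function.Injective rho := card_L.2

theorem finite_L : Finite L := Nat.finite_of_card_ne_zero (by rw [card_L.1]; decide)

/-- A letter of `L`. -/
noncomputable abbrev elK (a : ℕ) : L := lyHSetup.el a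

theorem elK_of_le {a : ℕ} (h : 18 ≤ a) : elK a = 1 := by
  have : lyHSetup.lt[a]? = none := List.getElem?_eq_none (by
    rw [show lyHSetup.lt.length = 18 from rfl]; exact h)
  show Setup.el lyHSetup a = 1
  unfold Setup.el
  rw [this]

theorem elK_inv (n : ℕ) : elK (2 * n + 1) = (elK (2 * n))⁻¹ := by
  rcases Nat.lt_or_ge n 9 with h | h
  · interval_cases n <;> rfl
  · rw [elK_of_le (by omega), elK_of_le (by omega), inv_one]

theorem ev_eq_wordEl {M : Type*} [Group M] (el : ℕ → M) :
    ∀ w : List ℕ, Data.ev el w = wordEl el w.reverse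
  | [] => by simp [Data.ev, wordEl]
  | a :: v => by
    show Data.ev el v * el a = _
    rw [ev_eq_wordEl el v, List.reverse_cons, wordEl_append]
    simp [wordEl]

theorem tab_trace : ∀ a < 18, tab.getD a 0 = lyHTab.trace [a] := by
  intro a ha
  interval_cases a
  exacts [Nat.eq_of_beq_eq_true tab0_eq, Nat.eq_of_beq_eq_true tab1_eq, Nat.eq_of_beq_eq_true tab2_eq,
    Nat.eq_of_beq_eq_true tab3_eq, Nat.eq_of_beq_eq_true tab4_eq, Nat.eq_of_beq_eq_true tab5_eq,
    Nat.eq_of_beq_eq_true tab6_eq, Nat.eq_of_beq_eq_true tab7_eq, Nat.eq_of_beq_eq_true tab8_eq,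
    Nat.eq_of_beq_eq_true tab9_eq, Nat.eq_of_beq_eq_true tab10_eq, Nat.eq_of_beq_eq_true tab11_eq,
    Nat.eq_of_beq_eq_true tab12_eq, Nat.eq_of_beq_eq_true tab13_eq, Nat.eq_of_beq_eq_true tab14_eq,
    Nat.eq_of_beq_eq_true tab15_eq, Nat.eq_of_beq_eq_true tab16_eq, Nat.eq_of_beq_eq_true tab17_eq]

theorem look_eq_lane (w T i : ℕ) : look w T i = lane w T i := by
  rw [lane_def, Nat.mul_comm]
  rfl

theorem tab_lt_k {a : ℕ} (ha : a < 18) : a < lyHTab.k := ha

theorem look_act {a : ℕ} (ha : a < 18) {i : ℕ} (hi : i < lyHTab.n) :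
    look 19 (tab.getD a 0) i = lyHTab.act a i := by
  have hp := hTable.perm
  have hw : ∀ b ∈ [a], b < lyHTab.k := fun b hb => by
    rw [List.mem_singleton] at hb; subst hb; exact ha
  rw [look_eq_lane, tab_trace a ha, Data.trace_eq hp [a] hw]
  exact lane_pack hp.hB
    (fun j hj => self_lt_two_pow_of_lt (by have := hp.hlg; omega) (Data.tw_lt hp [a] hw j hj))
    (lt_of_lt_of_le hi hp.hnN)

/-- Words of the letters of `L`. -/
def OkW (v : List ℕ) : Prop := ∀ a ∈ v, a < 18

theorem okW_winv : ∀ {v : List ℕ}, OkW v → OkW (winv v) := by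
  intro v hv a ha
  simp only [winv, List.mem_reverse, List.mem_map] at ha
  obtain ⟨b, hb, rfl⟩ := ha
  have := hv b hb
  rcases Nat.mod_two_eq_zero_or_one b with h | h <;> simp [h] <;> omega

theorem okW_append {v w : List ℕ} (hv : OkW v) (hw : OkW w) : OkW (v ++ w) := fun a ha =>
  (List.mem_append.1 ha).elim (hv a) (hw a)

theorem rho_word : ∀ {v : List ℕ}, OkW v → ∀ i : Fin lyHTab.n,
    (rho (wordEl elK v) i : ℕ) = StabCert.ev 19 tab v i
  | [], _, i => by simp [wordEl, StabCert.ev]
  | a :: l, hv, i => by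
    have ha : a < 18 := hv a List.mem_cons_self
    rw [wordEl_cons elK a l, map_mul, Equiv.Perm.mul_apply]
    show ((rho (lyHSetup.el a)) _ : ℕ) = look 19 (tab.getD a 0) (StabCert.ev 19 tab l i)
    rw [← rho_word (fun b hb => hv b (List.mem_cons_of_mem a hb)) i, look_act ha (Fin.isLt _), rho,
      Setup.hom_el _ _ _ _ (tab_lt_k ha), Setup.perm_apply hTable.perm (tab_lt_k ha)]

theorem n_eq : lyHTab.n = 19530 := rfl

theorem ev_lt {v : List ℕ} (hv : OkW v) {p : ℕ} (hp : p < 19530) : StabCert.ev 19 tab v p < 19530 := by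
  have h := rho_word hv ⟨p, by rw [n_eq]; exact hp⟩
  rw [← h]
  exact lt_of_lt_of_eq (Fin.isLt _) n_eq

theorem ev_winv {v : List ℕ} (hv : OkW v) {p : ℕ} (hp : p < 19530) :
    StabCert.ev 19 tab v (StabCert.ev 19 tab (winv v) p) = p := by
  have hp' : p < lyHTab.n := by rw [n_eq]; exact hp
  have h1 := rho_word (okW_winv hv) ⟨p, hp'⟩
  have h2 := rho_word hv (rho (wordEl elK (winv v)) ⟨p, hp'⟩)
  rw [h1, ← Equiv.Perm.mul_apply, ← map_mul, wordEl_winv elK_inv, mul_inv_cancel, map_one] at h2
  exact h2.symm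

theorem chain_roots : lyHTab_chain.map (fun O => O.root) = [0, 1, 3, 4] := rfl

/-- Equality is decided on the base. -/
theorem eq_of_base {v w : List ℕ} (hv : OkW v) (hw : OkW w)
    (h : ∀ β ∈ [0, 1, 3, 4], StabCert.ev 19 tab v β = StabCert.ev 19 tab w β) :
    wordEl elK v = wordEl elK w := by
  have := finite_L
  set g := rho ((wordEl elK v)⁻¹ * wordEl elK w) with hg
  have hfix : ∀ O ∈ lyHTab_chain, ∀ i : Fin lyHTab.n, (i : ℕ) = O.root → g i = i := by
    intro O hO i hi
    have hβ : (i : ℕ) ∈ [0, 1, 3, 4] := by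
      rw [← chain_roots, hi]; exact List.mem_map.2 ⟨O, hO, rfl⟩
    rw [hg, map_mul, map_inv, Equiv.Perm.mul_apply, Equiv.Perm.inv_eq_iff_eq]
    refine Fin.ext ?_
    rw [rho_word hw, rho_word hv]
    exact (h _ hβ).symm
  have hle := chainSize_mul_le hTable.perm lyHTab_chain [] chain_ok.1 (fun _ hb => absurd hb List.not_mem_nil)
    rho.range (Subgroup.zpowers g)
    (fun O hO u hu => Setup.ev_perm_mem_range hTable.gens hTable.letters hTable.perm hTable.rels u
      (orbit_words_lt (chain_mem hTable.perm _ _ chain_ok.1 (fun _ hb => absurd hb List.not_mem_nil) O hO).1 u hu))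
    (Subgroup.zpowers_le.2 ⟨_, rfl⟩)
    (fun x hx O hO i hi => (Subgroup.zpowers_le.2
      (show g ∈ MulAction.stabilizer (Equiv.Perm (Fin lyHTab.n)) i from hfix O hO i hi) hx))
  have hcard : Nat.card rho.range ≤ 5859000000 := by
    rw [← card_L.1]
    exact Nat.card_le_card_of_surjective _ rho.rangeRestrict_surjective
  rw [chain_ok.2] at hle
  have h1 : Nat.card (Subgroup.zpowers g) = 1 := by
    have hpos : 0 < Nat.card (Subgroup.zpowers g) := Nat.card_pos
    have := Nat.le_of_mul_le_mul_left ((hle.trans hcard).trans (Nat.mul_one _).ge) (by decide)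
    omega
  rw [Subgroup.card_eq_one, Subgroup.zpowers_eq_bot, hg] at h1
  exact inv_mul_eq_one.1 (rho_injective (h1.trans (map_one rho).symm))

/-- The letters generate. -/
theorem exists_word (k : L) : ∃ v, OkW v ∧ wordEl elK v = k := by
  have hk : k ∈ Subgroup.closure (Set.range fun a : Fin lyHTab.k => lyHSetup.el a) := by
    rw [Setup.closure_el hTable.gens hTable.letters]; trivial
  induction hk using Subgroup.closure_induction with
  | mem x hx =>
    obtain ⟨a, rfl⟩ := hx
    exact ⟨[(a : ℕ)], fun b hb => by rw [List.mem_singleton] at hb; subst hb; exact a.2, by simp [wordEl]⟩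
  | one => exact ⟨[], fun b hb => absurd hb List.not_mem_nil, by simp [wordEl]⟩
  | mul x y _ _ hx hy =>
    obtain ⟨v, hv, rfl⟩ := hx
    obtain ⟨w, hw, rfl⟩ := hy
    exact ⟨v ++ w, okW_append hv hw, wordEl_append _ _ _⟩
  | inv x _ hx =>
    obtain ⟨v, hv, rfl⟩ := hx
    exact ⟨winv v, okW_winv hv, wordEl_winv elK_inv v⟩

/-- The stabiliser of the point `0` is generated by the eight words. -/
theorem mem_stab_of_fix {v : List ℕ} (hv : OkW v) (h : StabCert.ev 19 tab v 0 = 0) :
    wordEl elK v ∈ lyHSetup.closureOf lyHs := by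
  obtain ⟨ext, hsrc, hext⟩ := hTable.src
  obtain ⟨e, he0, he⟩ := Setup.exists_equiv hTable.gens hTable.letters hTable.check hTable.rels hTable.perm
    hTable.subs hsrc (lyHSetup.closureOf lyHs) rfl hext
  have h0 : rho (wordEl elK v) ⟨0, hTable.perm.hn⟩ = ⟨0, hTable.perm.hn⟩ := Fin.ext ((rho_word hv _).trans h)
  have h1 := he (wordEl elK v) ⟨0, hTable.perm.hn⟩
  change wordEl elK v • e _ = e (rho (wordEl elK v) _) at h1
  rw [h0, he0] at h1
  have h2 : ((wordEl elK v * 1 : L) : L ⧸ lyHSetup.closureOf lyHs) = ((1 : L) : L ⧸ lyHSetup.closureOf lyHs) := h1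
  rw [QuotientGroup.eq, mul_one, mul_one] at h2
  exact inv_mem_iff.1 h2

/-- Words in Ly come from `L`. -/
theorem wordEl_elL : ∀ {v : List ℕ}, OkW v → wordEl elL v = toLy (wordEl elK v)
  | [], _ => by simp [wordEl]
  | a :: l, hv => by
    rw [wordEl_cons elL a l, wordEl_cons elK a l, map_mul, toLy_el a (hv a List.mem_cons_self),
      wordEl_elL fun b hb => hv b (List.mem_cons_of_mem a hb)]

end Cfsg.Agent.Lyons
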