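import Cfsg.Prelude.Def_Spor_Ly
import Cfsg.Agent.Lib.Lyons.ModelData
import Cfsg.Agent.Lib.CosetEnum.Check
import Cfsg.Agent.Lib.LyPresented.PackMat

/-!
# The representation of degree 111 of the presented Lyons group (helper11)

The 39 generators are read as words in ten letters, whose matrices are checked against all 86 relators.

* `li`, `subst` : the ten letters, the generators as words in them
* `lmat`, `pword`, `pword_rep` : the matrices, packed evaluation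
* `phi` : `Spor.Ly →* GL (Fin 111) (ZMod 5)`; `phi_ev`, `wordLy` : evaluation of words
-/

set_option autoImplicit false
set_option maxRecDepth 100000
set_option Elab.async false

open Cfsg

namespace Cfsg.Agent.Lyons

open Cfsg.Agent.CosetEnum (force force_eq lane beq_iff)
open Cfsg.Agent.LyPresented (IsRep mmul mkPack)

instance instFactPrimeFive : Fact (Nat.Prime 5) := ⟨by norm_num⟩

/-- Square matrices of size 111 over the field of five elements. -/
abbrev M111 : Type := Matrix (Fin 111) (Fin 111) (ZMod 5)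

/-- A letter. -/
abbrev li (i : Fin 10) : FreeGroup (Fin 10) := FreeGroup.of i

/-- The generators as words in the letters `a, b, c, c2, c3, c4, c5, e, d, z`. -/
def subst : Spor.Ly.Gen → FreeGroup (Fin 10)
  | .a => li 0
  | .b => li 1
  | .c => li 2
  | .d => li 8
  | .z => li 9
  | .e => li 7
  | .a1 => li 0
  | .a2 => li 1 * li 0 * (li 1)⁻¹
  | .a3 => li 1 * li 1 * li 0 * (li 1)⁻¹ * (li 1)⁻¹
  | .a4 => (li 1)⁻¹ * (li 1)⁻¹ * li 0 * li 1 * li 1
  | .c1 => li 2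
  | .c2 => li 3
  | .c3 => li 4
  | .c4 => li 5
  | .c5 => li 6
  | .u => li 0 * li 0
  | .x23 => li 8
  | .x24 => (li 8)⁻¹
  | .x25 => li 1 * li 1 * (li 0)⁻¹ * (li 1)⁻¹ * (li 0)⁻¹ * li 1 * li 1 * (li 2)⁻¹ * li 0 * li 2 * (li 0)⁻¹ * (li 2)⁻¹ * li 8 * (li 2)⁻¹ * li 1 * li 1 * (li 0)⁻¹ * li 2 * li 1
  | .x29 => li 0 * li 1 * (li 0)⁻¹ * li 1 * li 1 * (li 0)⁻¹ * li 1 * li 1 * (li 2)⁻¹ * li 0 * li 2 * li 1 * li 2 * (li 1)⁻¹ * li 8 * li 2 * (li 1)⁻¹ * (li 1)⁻¹ * li 8 * li 2 * li 1 * li 2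
  | .x47 => (li 2)⁻¹ * (li 8)⁻¹ * (li 0)⁻¹ * (li 2)⁻¹ * (li 0)⁻¹ * li 1 * (li 2)⁻¹ * (li 8)⁻¹
  | .x96 => li 1 * li 8
  | .x129 => (li 8)⁻¹ * (li 1)⁻¹
  | .x162 => (li 0)⁻¹ * (li 1)⁻¹ * (li 0)⁻¹ * li 1 * (li 2)⁻¹ * (li 1)⁻¹ * li 0 * (li 2)⁻¹ * li 1 * li 0
  | .x163 => (li 1)⁻¹ * (li 1)⁻¹ * li 0 * li 2 * (li 0)⁻¹ * li 1 * li 2 * li 1
  | .x164 => (li 0)⁻¹ * (li 1)⁻¹ * (li 0)⁻¹ * li 2 * li 0 * li 1 * li 0
  | .x165 => (li 1)⁻¹ * (li 0)⁻¹ * li 1 * li 2 * (li 1)⁻¹ * li 0 * li 1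
  | .x166 => li 1 * li 1 * (li 0)⁻¹ * (li 1)⁻¹ * li 2 * li 1 * li 0 * li 2 * (li 1)⁻¹ * (li 1)⁻¹ * (li 2)⁻¹
  | .x167 => (li 0)⁻¹ * (li 0)⁻¹ * (li 0)⁻¹
  | .x168 => li 1 * (li 0)⁻¹ * (li 1)⁻¹ * (li 0)⁻¹ * (li 0)⁻¹
  | .x169 => li 0 * li 1 * li 1 * li 0 * (li 1)⁻¹ * (li 1)⁻¹ * (li 0)⁻¹
  | .x364 => (li 0)⁻¹ * li 8 * (li 1)⁻¹ * (li 2)⁻¹ * (li 0)⁻¹ * li 1 * (li 2)⁻¹ * (li 8)⁻¹ * li 1 * (li 2)⁻¹ * (li 1)⁻¹ * (li 0)⁻¹ * (li 2)⁻¹ * li 0 * (li 1)⁻¹ * li 0 * li 1 * li 0 * (li 1)⁻¹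
  | .x365 => li 0 * (li 1)⁻¹ * (li 1)⁻¹ * (li 0)⁻¹ * li 2 * li 1 * (li 2)⁻¹ * li 1 * (li 0)⁻¹ * (li 2)⁻¹ * (li 2)⁻¹ * li 8 * li 2 * li 0 * li 2 * (li 0)⁻¹ * li 2 * (li 1)⁻¹ * (li 8)⁻¹
  | .x366 => li 1 * li 0 * (li 1)⁻¹ * (li 0)⁻¹ * (li 1)⁻¹ * (li 1)⁻¹ * (li 0)⁻¹ * (li 1)⁻¹ * li 2 * li 1 * li 1 * li 2 * li 1 * li 8 * li 2 * (li 1)⁻¹ * (li 1)⁻¹ * li 8 * li 2 * li 1 * li 2
  | .x367 => (li 2)⁻¹ * (li 1)⁻¹ * (li 2)⁻¹ * (li 8)⁻¹ * li 1 * li 1 * (li 2)⁻¹ * (li 8)⁻¹ * (li 1)⁻¹ * (li 2)⁻¹ * (li 1)⁻¹ * (li 1)⁻¹ * (li 2)⁻¹ * li 1 * li 0 * li 1 * li 1 * li 0 * li 1 * (li 0)⁻¹ * (li 1)⁻¹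
  | .x368 => (li 0)⁻¹ * (li 2)⁻¹ * (li 8)⁻¹ * li 0 * (li 2)⁻¹ * (li 1)⁻¹ * li 0 * (li 2)⁻¹ * (li 8)⁻¹ * (li 0)⁻¹ * (li 2)⁻¹ * li 0 * li 2 * (li 1)⁻¹ * (li 1)⁻¹ * (li 2)⁻¹ * (li 1)⁻¹ * (li 0)⁻¹ * (li 1)⁻¹ * (li 1)⁻¹
  | .x369 => (li 0)⁻¹ * (li 2)⁻¹ * (li 8)⁻¹ * li 1 * (li 0)⁻¹ * (li 1)⁻¹ * (li 2)⁻¹ * (li 8)⁻¹ * li 1 * (li 0)⁻¹ * (li 1)⁻¹ * (li 2)⁻¹ * (li 1)⁻¹ * li 0 * (li 1)⁻¹ * (li 1)⁻¹ * li 0 * (li 1)⁻¹
  | .x370 => (li 8)⁻¹ * li 0 * li 2 * li 1 * li 2 * (li 0)⁻¹ * (li 2)⁻¹ * (li 8)⁻¹ * li 0 * (li 1)⁻¹ * (li 0)⁻¹ * li 2 * (li 0)⁻¹ * (li 1)⁻¹ * (li 1)⁻¹ * (li 0)⁻¹ * li 1 * (li 0)⁻¹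
  | .x371 => (li 2)⁻¹ * (li 0)⁻¹ * li 2 * li 1 * (li 2)⁻¹ * (li 8)⁻¹ * li 2 * (li 0)⁻¹ * li 2 * li 0 * li 2 * (li 1)⁻¹ * (li 0)⁻¹ * (li 1)⁻¹ * (li 0)⁻¹ * li 1

/-- Entry of a matrix. -/
noncomputable def entry (q i k : ℕ) : ℕ := lane 3 ((modelRows.getD q []).getD i 0) k

/-- Matrix of a signed letter: `2 i` and `2 i + 1` are inverse. -/
noncomputable def lmat (q : ℕ) : M111 := Matrix.of fun i k => (entry q i k : ZMod 5)

/-- The packed identity. -/
def pone : ℕ := mkPack 111 fun i k => bif Nat.beq i k then 1 else 0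

/-- The packed word. -/
noncomputable def pword (w : List ℕ) : ℕ :=
  List.rec (motive := fun _ => ℕ) pone
    (fun q _ ih => force ih fun r => force (mkPack 111 (entry q)) fun m => mmul 111 m r) w

theorem pone_rep : IsRep 111 pone (1 : M111) := by
  have h := IsRep.mk 111 fun i k => bif Nat.beq i k then 1 else 0
  refine (?_ : (Matrix.of fun i k : Fin 111 => (((bif Nat.beq i k then 1 else 0 : ℕ)) : ZMod 5)) = 1) ▸ h
  ext i k
  rw [Matrix.of_apply, Matrix.one_apply]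
  by_cases hik : i = k
  · subst hik; simp
  · have : Nat.beq (i : ℕ) k = false := by
      rw [Bool.eq_false_iff, Ne, beq_iff]
      exact fun hc => hik (Fin.ext hc)
    simp [this, hik]

theorem pword_rep : ∀ w : List ℕ, IsRep 111 (pword w) (w.map lmat).prod
  | [] => by rw [List.map_nil, List.prod_nil]; exact pone_rep
  | q :: v => by
    show IsRep 111 (force (pword v) fun r => force (mkPack 111 (entry q)) fun m => mmul 111 m r) _
    rw [force_eq, force_eq, List.map_cons, List.prod_cons]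
    exact (IsRep.mk 111 (entry q)).mul (by norm_num) (pword_rep v)

theorem prod_eq_one {w : List ℕ} (h : Nat.beq (pword w) pone = true) : (w.map lmat).prod = 1 :=
  (pword_rep w).unique (beq_iff.mp h ▸ pone_rep)

theorem pair_check : ((List.range 10).all fun i =>
    Nat.beq (pword [2 * i, 2 * i + 1]) pone) = true := by decide +kernel

attribute [local irreducible] lmat

/-- The invertible matrix of a letter. -/
noncomputable def lgl (i : Fin 10) : GL (Fin 111) (ZMod 5) :=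
  Units.mk (lmat (2 * i.val)) (lmat (2 * i.val + 1))
    (by
      have h := prod_eq_one (List.all_eq_true.mp pair_check i.val (List.mem_range.mpr i.isLt))
      simpa using h)
    (by
      have h := prod_eq_one (List.all_eq_true.mp pair_check i.val (List.mem_range.mpr i.isLt))
      exact mul_eq_one_comm.mp (by simpa using h))

/-- The number of a signed letter. -/
def scode (p : Fin 10 × Bool) : ℕ := bif p.2 then 2 * p.1.val else 2 * p.1.val + 1

theorem lift_word : ∀ w : List (Fin 10 × Bool),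
    ((FreeGroup.lift lgl (FreeGroup.mk w) : GL (Fin 111) (ZMod 5)) : M111) = ((w.map scode).map lmat).prod
  | [] => by rw [← FreeGroup.one_eq_mk, map_one]; simp
  | p :: v => by
    have h : FreeGroup.mk (p :: v) = FreeGroup.mk [p] * FreeGroup.mk v := by rw [FreeGroup.mul_mk]; rfl
    have h1 : ((FreeGroup.lift lgl (FreeGroup.mk [p]) : GL (Fin 111) (ZMod 5)) : M111) = lmat (scode p) := by
      rcases p with ⟨i, b⟩
      rw [FreeGroup.lift_mk, List.map_cons, List.map_nil, List.prod_singleton]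
      cases b <;> rfl
    simp only [h, map_mul, Units.val_mul, h1, lift_word v, List.map_cons, List.prod_cons]

theorem lift_eq (r : FreeGroup (Fin 10)) :
    ((FreeGroup.lift lgl r : GL (Fin 111) (ZMod 5)) : M111) = ((r.toWord.map scode).map lmat).prod := by
  rw [← lift_word, FreeGroup.mk_toWord]

/-- The check of one relator. -/
noncomputable def relB (r : FreeGroup Spor.Ly.Gen) : Bool :=
  Nat.beq (pword ((FreeGroup.lift subst r).toWord.map scode)) pone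

theorem rels_check0 : ((Spor.Ly.extra.drop 0).take 17).all relB = true := by decide +kernel

theorem rels_check1 : ((Spor.Ly.extra.drop 17).take 13).all relB = true := by decide +kernel

theorem rels_check2 : ((Spor.Ly.extra.drop 30).take 9).all relB = true := by decide +kernel

theorem rels_check3 : ((Spor.Ly.extra.drop 39).take 38).all relB = true := by decide +kernel

theorem rels_check4 : ((Spor.Ly.extra.drop 77).take 6).all relB = true := by decide +kernel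

theorem rels_check5 : ((Spor.Ly.extra.drop 83).take 2).all relB = true := by decide +kernel

theorem rels_check6 : ((Spor.Ly.extra.drop 85).take 1).all relB = true := by decide +kernel

theorem rel_holds : ∀ r ∈ Spor.Ly.extra, relB r = true := by
  have h : Spor.Ly.extra = (Spor.Ly.extra.drop 0).take 17 ++ (Spor.Ly.extra.drop 17).take 13 ++ (Spor.Ly.extra.drop 30).take 9 ++ (Spor.Ly.extra.drop 39).take 38 ++ (Spor.Ly.extra.drop 77).take 6 ++ (Spor.Ly.extra.drop 83).take 2 ++ (Spor.Ly.extra.drop 85).take 1 := rfl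
  rw [h]
  intro r hr
  simp only [List.mem_append] at hr
  rcases hr with ((((((h0) | h1) | h2) | h3) | h4) | h5) | h6
  · exact List.all_eq_true.mp rels_check0 r h0
  · exact List.all_eq_true.mp rels_check1 r h1
  · exact List.all_eq_true.mp rels_check2 r h2
  · exact List.all_eq_true.mp rels_check3 r h3
  · exact List.all_eq_true.mp rels_check4 r h4
  · exact List.all_eq_true.mp rels_check5 r h5
  · exact List.all_eq_true.mp rels_check6 r h6

/-- The representation. -/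
noncomputable def phi : Spor.Ly →* GL (Fin 111) (ZMod 5) :=
  PresentedGroup.toGroup (f := fun g => FreeGroup.lift lgl (subst g)) fun r hr => by
    have hr' : r ∈ Spor.Ly.extra := by
      simpa [Spor.coxRelators, Spor.coxNodes, Spor.Ly.edges] using hr
    have h1 : FreeGroup.lift (fun g => FreeGroup.lift lgl (subst g)) r =
        FreeGroup.lift lgl (FreeGroup.lift subst r) :=
      DFunLike.congr_fun (FreeGroup.ext_hom (f := FreeGroup.lift _)
        (g := (FreeGroup.lift lgl).comp (FreeGroup.lift subst)) fun g => by simp) r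
    refine h1.trans (Units.ext ?_)
    rw [lift_eq, Units.val_one]
    exact prod_eq_one (rel_holds r hr')

/-- The generator of Ly behind a letter. -/
def letterGen : Fin 10 → Spor.Ly.Gen := ![.a, .b, .c, .c2, .c3, .c4, .c5, .e, .d, .z]

/-- An element of Ly given by signed letters. -/
noncomputable def wordLy (w : List ℕ) : Spor.Ly :=
  (w.map fun q => bif Nat.beq (q % 2) 0 then PresentedGroup.of (letterGen ⟨q / 2 % 10, Nat.mod_lt _ (by norm_num)⟩)
    else (PresentedGroup.of (letterGen ⟨q / 2 % 10, Nat.mod_lt _ (by norm_num)⟩))⁻¹).prod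

theorem subst_letterGen : ∀ i, subst (letterGen i) = li i := by decide +kernel

theorem phi_letter (i : Fin 10) : phi (PresentedGroup.of (letterGen i)) = lgl i := by
  rw [phi, PresentedGroup.toGroup.of, subst_letterGen, li, FreeGroup.lift_apply_of]

theorem phi_ev : ∀ w : List ℕ, (∀ q ∈ w, q < 20) →
    ((phi (wordLy w) : GL (Fin 111) (ZMod 5)) : M111) = (w.map lmat).prod
  | [], _ => by simp [wordLy]
  | q :: v, h => by
    have hq : q < 20 := h q List.mem_cons_self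
    rw [show wordLy (q :: v) = wordLy [q] * wordLy v by simp [wordLy], map_mul, Units.val_mul,
      phi_ev v (fun x hx => h x (List.mem_cons_of_mem _ hx)), List.map_cons, List.prod_cons]
    congr 1
    simp only [wordLy, List.map_cons, List.map_nil, List.prod_cons, List.prod_nil, mul_one]
    rcases Nat.mod_two_eq_zero_or_one q with e | e
    · rw [e, show Nat.beq 0 0 = true from rfl, cond_true, phi_letter]
      show lmat (2 * (q / 2 % 10)) = lmat q
      congr 1; omega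
    · rw [e, show Nat.beq 1 0 = false from rfl, cond_false, map_inv, phi_letter]
      show lmat (2 * (q / 2 % 10) + 1) = lmat q
      congr 1; omega

end Cfsg.Agent.Lyons
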