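import Cfsg.Agent.EqLemmas

/-!
# A chain of cyclic extensions of prime index inside a finite group (helper11)

* `tailGen`, `natCard_tailGen` : `n` elements, each normalising the group of the later ones, with its `p`th power in it
  and itself outside it, generate a group of order `p ^ n`
-/

set_option autoImplicit false

namespace Cfsg.Agent.Lyons

open scoped Pointwise

variable {G : Type*} [Group G]

theorem natCard_adjoin [Finite G] {p : ℕ} (hp : p.Prime) {Q : Subgroup G} {u : G} (hn : ∀ x ∈ Q, u * x * u⁻¹ ∈ Q)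
    (hu : u ∉ Q) (hup : u ^ p ∈ Q) : Nat.card ↥(Q ⊔ Subgroup.zpowers u) = p * Nat.card Q := by
  haveI : Fact p.Prime := ⟨hp⟩
  have hnorm : u ∈ Subgroup.normalizer (Q : Set G) := by
    have hsub : Q.map (MulAut.conj u).toMonoidHom ≤ Q := by
      rintro _ ⟨x, hx, rfl⟩
      exact hn x hx
    have heq : Q.map (MulAut.conj u).toMonoidHom = Q :=
      Subgroup.eq_of_le_of_card_ge hsub (by rw [Subgroup.card_map_of_injective (MulEquiv.injective _)])
    refine Subgroup.mem_normalizer_iff.2 fun x => ⟨hn x, fun hx => ?_⟩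
    obtain ⟨y, hy, e⟩ := (heq.ge : _) hx
    rwa [← (MulAut.conj u).injective (a₁ := y) (a₂ := x) e]
  set K := Q ⊔ Subgroup.zpowers u
  have hQK : Q ≤ K := le_sup_left
  have huK : u ∈ K := (le_sup_right : Subgroup.zpowers u ≤ K) (Subgroup.mem_zpowers u)
  haveI : (Q.subgroupOf K).Normal :=
    (Subgroup.normal_subgroupOf_iff_le_normalizer hQK).2 (sup_le Subgroup.le_normalizer (Subgroup.zpowers_le.2 hnorm))
  set v : K ⧸ Q.subgroupOf K := QuotientGroup.mk ⟨u, huK⟩
  have hv : orderOf v = p := orderOf_eq_prime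
    (by rw [← QuotientGroup.mk_pow, QuotientGroup.eq_one_iff, Subgroup.mem_subgroupOf]; exact hup)
    (by rw [Ne, QuotientGroup.eq_one_iff, Subgroup.mem_subgroupOf]; exact hu)
  have htop : Subgroup.zpowers v = ⊤ := by
    refine eq_top_iff.2 fun y _ => ?_
    obtain ⟨⟨k, hk⟩, rfl⟩ := QuotientGroup.mk_surjective y
    have hk' : k ∈ ((Q ⊔ Subgroup.zpowers u : Subgroup G) : Set G) := hk
    rw [Subgroup.coe_mul_of_right_le_normalizer_left Q (Subgroup.zpowers u)] at hk'
    · obtain ⟨a, ha, b, hb, e⟩ := Set.mem_mul.1 hk'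
      obtain ⟨m, rfl⟩ := Subgroup.mem_zpowers_iff.1 hb
      refine ⟨m, ?_⟩
      show (QuotientGroup.mk ⟨u, huK⟩ : K ⧸ Q.subgroupOf K) ^ m = _
      rw [← QuotientGroup.mk_zpow, QuotientGroup.eq, Subgroup.mem_subgroupOf]
      simp only [Subgroup.coe_mul, Subgroup.coe_inv, SubgroupClass.coe_zpow, ← e]
      have := Subgroup.mem_normalizer_iff.1 (inv_mem (zpow_mem hnorm m)) a
      simpa [mul_assoc] using this.1 ha
    · exact Subgroup.zpowers_le.2 hnorm
  rw [Subgroup.card_eq_card_quotient_mul_card_subgroup (Q.subgroupOf K),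
    Nat.card_congr (Subgroup.subgroupOfEquivOfLe hQK).toEquiv, ← Subgroup.card_top (G := K ⧸ Q.subgroupOf K), ← htop,
    Nat.card_zpowers, hv]

/-- The group generated by `u i, ..., u (n - 1)`. -/
def tailGen (u : ℕ → G) (n i : ℕ) : Subgroup G := Subgroup.closure {x | ∃ j, i ≤ j ∧ j < n ∧ x = u j}

theorem natCard_tailGen [Finite G] {p : ℕ} (hp : p.Prime) (u : ℕ → G) (n : ℕ)
    (hpow : ∀ i < n, u i ^ p ∈ tailGen u n (i + 1))
    (hconj : ∀ i < n, ∀ j, i < j → j < n → u i * u j * (u i)⁻¹ ∈ tailGen u n (i + 1))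
    (hout : ∀ i < n, u i ∉ tailGen u n (i + 1)) :
    ∀ k ≤ n, Nat.card (tailGen u n (n - k)) = p ^ k
  | 0, _ => by
    have h0 : tailGen u n (n - 0) = ⊥ := by
      rw [tailGen, Subgroup.closure_eq_bot_iff]
      rintro x ⟨j, h1, h2, rfl⟩
      omega
    rw [h0, Subgroup.card_bot, pow_zero]
  | k + 1, hk => by
    set i := n - (k + 1)
    have hi : i < n := by omega
    have e : tailGen u n i = tailGen u n (i + 1) ⊔ Subgroup.zpowers (u i) := by
      refine le_antisymm ((Subgroup.closure_le _).2 ?_) (sup_le (Subgroup.closure_mono ?_)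
        (Subgroup.zpowers_le.2 (Subgroup.subset_closure ⟨i, le_rfl, hi, rfl⟩)))
      · rintro x ⟨j, h1, h2, rfl⟩
        rcases h1.eq_or_lt with rfl | h
        · exact (le_sup_right : Subgroup.zpowers (u i) ≤ _) (Subgroup.mem_zpowers _)
        · exact (le_sup_left : tailGen u n (i + 1) ≤ _) (Subgroup.subset_closure ⟨j, h, h2, rfl⟩)
      · rintro x ⟨j, h1, h2, rfl⟩
        exact ⟨j, by omega, h2, rfl⟩
    rw [e, natCard_adjoin hp (fun x hx => ?_) (hout i hi) (hpow i hi), show i + 1 = n - k by omega,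
      natCard_tailGen hp u n hpow hconj hout k (by omega), pow_succ, mul_comm]
    exact (show tailGen u n (i + 1) ≤ (tailGen u n (i + 1)).comap (MulAut.conj (u i)).toMonoidHom from
      (Subgroup.closure_le _).2 (by rintro x ⟨j, h1, h2, rfl⟩; exact hconj i hi j h1 h2)) hx

end Cfsg.Agent.Lyons
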