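import Cfsg.Agent.Lib.Lyons.Class1
import Cfsg.Agent.Lib.Lyons.Class2
import Cfsg.Agent.Lib.Lyons.Class3
import Cfsg.Agent.Lib.Lyons.Class4
import Cfsg.Agent.Lib.LyPresented.Simple

/-!
# `⟨a, b, c, d⟩` has index at most 8835156 in Ly

* `cosets_eq_univ` : every coset lies in the orbit of one of five
* `ly_index_bound` : the bound for the index
* `ly_suborbits` : at equality, the five orbits and their sizes
-/

set_option autoImplicit false
set_option maxRecDepth 100000

namespace Cfsg.Agent.Lyons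

open Cfsg Cfsg.Spor Cfsg.Agent.CosetEnum Cfsg.Agent.StabCert
open Cfsg.Agent.HNPresented (winv wordEl_winv wordEl_cons wordEl_nil Cfg)
open Cfsg.Agent.LyPresented (lyH)

theorem facts_range : (facts.all fun f => Nat.blt f.2.2.1 5 && cfg.okW f.2.2.2) = true := by decide +kernel

theorem mem_orb {v : List ℕ} (hv : OkW v) (i : ℕ) : wordEl elL v • pt i ∈ Orb i :=
  ⟨wordEl elK v, by simp only [wordEl_elL hv]⟩

/-- The union of the five orbits. -/
def cosets : Set (Spor.Ly ⧸ lyH) := ⋃ i : Fin 5, Orb i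

theorem mem_cosets {q : Spor.Ly ⧸ lyH} : q ∈ cosets ↔ ∃ i < 5, q ∈ Orb i :=
  ⟨fun h => let ⟨i, hi⟩ := Set.mem_iUnion.1 h; ⟨i, i.2, hi⟩,
    fun ⟨i, hi, hq⟩ => Set.mem_iUnion.2 ⟨⟨i, hi⟩, hq⟩⟩

theorem zz_smul_orb {i : ℕ} (C : CoverCert i) {q : Spor.Ly ⧸ lyH} (hq : q ∈ Orb i) : zz • q ∈ cosets := by
  obtain ⟨k, rfl⟩ := hq
  obtain ⟨v, hv, rfl⟩ := exists_word k
  obtain ⟨n, l, hn, hni, ha, hl, hlw, hev⟩ := cover_spec C (StabCert.ev 19 tab (winv v) 0)
    (ev_lt (okW_winv hv) (by decide))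
  set a := (cfg.fact n).2.1 with ha'
  obtain ⟨u, hu, hus⟩ := stab_twist (okW_append (okW_append hv hlw) (okW_winv ha)) (by
    rw [ev_append, ev_append, hev, ev_winv hv (by decide)])
  have hr := facts_range
  simp only [List.all_eq_true, Bool.and_eq_true, Nat.blt_eq] at hr
  have hm : cfg.fact n ∈ facts := by
    show facts.getD n (0, [], 0, []) ∈ facts
    rw [List.getD_eq_getElem _ _ hn]
    exact List.getElem_mem _
  obtain ⟨hj, hok⟩ := hr _ hm
  refine mem_cosets.2 ⟨(cfg.fact n).2.2.1, hj, ?_⟩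
  show zz • toLy (wordEl elK v) • pt i ∈ _
  have e : toLy (wordEl elK v) • pt i = wordEl elL (v ++ cfg.lexp l ++ winv a) • wordEl elL a • pt i := by
    rw [wordEl_append, wordEl_append, wordEl_winv elL_inv, mul_smul (_ * _), inv_smul_smul, mul_smul,
      HNPresented.lexp_fixes sound holds.2 l hl, wordEl_elL hv]
  have e3 := holds.1 n hn
  rw [HNPresented.FactHolds, hni] at e3
  rw [e, ← mul_smul zz, hus, mul_smul, e3, ← mul_smul, ← wordEl_append]
  exact mem_orb (okW_append hu (okW_iff.1 hok)) _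

theorem zz_smul_cosets {q : Spor.Ly ⧸ lyH} (hq : q ∈ cosets) : zz • q ∈ cosets := by
  obtain ⟨i, hi, hq⟩ := mem_cosets.1 hq
  interval_cases i
  · obtain ⟨k, rfl⟩ := hq
    refine mem_cosets.2 ⟨1, by omega, 1, ?_⟩
    show toLy 1 • pt 1 = zz • toLy k • pt 0
    have h0 := holds.1 0 (show 0 < facts.length by decide)
    change zz • wordEl elL [] • pt 0 = wordEl elL [] • pt 1 at h0
    rw [wordEl_nil, one_smul, one_smul] at h0
    rw [pt_zero] at h0 ⊢
    rw [smul_base, map_one, one_smul, h0]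
  · exact zz_smul_orb coverCert1 hq
  · exact zz_smul_orb coverCert2 hq
  · exact zz_smul_orb coverCert3 hq
  · exact zz_smul_orb coverCert4 hq

theorem elL_of_ge {a : ℕ} (h : 20 ≤ a) : elL a = 1 := by
  have hn : pairGen (a / 2) = none := by
    obtain ⟨m, hm⟩ : ∃ m, a / 2 = m + 10 := ⟨a / 2 - 10, by omega⟩
    rw [hm]; rfl
  simp [elL, pairEl, hn]

theorem elL_smul_cosets (a : ℕ) {q : Spor.Ly ⧸ lyH} (hq : q ∈ cosets) : elL a • q ∈ cosets := by
  have low : ∀ b < 18, ∀ q ∈ cosets, elL b • q ∈ cosets := fun b hb q hq => by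
    obtain ⟨i, hi, k, rfl⟩ := mem_cosets.1 hq
    refine mem_cosets.2 ⟨i, hi, elK b * k, ?_⟩
    show toLy (elK b * k) • pt i = elL b • toLy k • pt i
    rw [map_mul, mul_smul, toLy_el b hb]
  rcases Nat.lt_or_ge a 18 with h | h
  · exact low a h q hq
  rcases Nat.lt_or_ge a 20 with h' | h'
  · interval_cases a
    · exact zz_smul_cosets hq
    · rw [zz_inv]
      simp only [wordEl_cons elL, wordEl_nil elL, mul_one, mul_smul]
      exact low 1 (by omega) _ (low 1 (by omega) _ (zz_smul_cosets hq))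
  · rw [elL_of_ge h', one_smul]; exact hq

theorem cosets_eq_univ (q : Spor.Ly ⧸ lyH) : q ∈ cosets := by
  obtain ⟨g, rfl⟩ := QuotientGroup.mk_surjective q
  obtain ⟨r, rfl⟩ := PresentedGroup.mk_surjective _ g
  have key : ∀ l : List ℕ, ∀ q ∈ cosets, wordEl elL l • q ∈ cosets := by
    intro l
    induction l with
    | nil => intro q hq; rw [wordEl_nil, one_smul]; exact hq
    | cons a l ih => intro q hq; rw [wordEl_cons, mul_smul]; exact elL_smul_cosets a (ih q hq)
  have h1 : base ∈ cosets := mem_cosets.2 ⟨0, by omega, 1, by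
    show toLy 1 • pt 0 = base
    rw [map_one, one_smul, pt_zero]⟩
  have := key (letters r) base h1
  rw [← mk_eq_letters] at this
  simpa [base] using this

/-- The sizes of the five orbits. -/
def orbSize : Fin 5 → ℕ := ![1, 19530, 5812500, 968750, 2034375]

theorem orb_zero : Orb 0 = {base} := by
  ext q
  constructor
  · rintro ⟨k, rfl⟩
    show toLy k • pt 0 = base
    rw [pt_zero, smul_base]
  · rintro rfl
    exact ⟨1, by show toLy 1 • pt 0 = base; rw [map_one, one_smul, pt_zero]⟩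

theorem orb_le : ∀ i : Fin 5, (Orb i).Finite ∧ (Orb i).ncard ≤ orbSize i := by
  intro i
  fin_cases i
  · show (Orb 0).Finite ∧ (Orb 0).ncard ≤ 1
    rw [orb_zero, Set.ncard_singleton]
    exact ⟨Set.finite_singleton _, le_rfl⟩
  · exact orbit_one_le
  · exact orbit_le towerCert2
  · exact orbit_le towerCert3
  · exact orbit_le towerCert4

theorem sum_orbSize : ∑ i, orbSize i = 8835156 := by decide +kernel

/-- The map from the five orbits onto the cosets. -/
def orbMap (p : Σ i : Fin 5, ↥(Orb i)) : Spor.Ly ⧸ lyH := p.2.1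

theorem orbMap_surjective : Function.Surjective orbMap := fun q =>
  let ⟨i, hi, hq⟩ := mem_cosets.1 (cosets_eq_univ q)
  ⟨⟨⟨i, hi⟩, ⟨q, hq⟩⟩, rfl⟩

theorem card_sigma_orb : Nat.card (Σ i : Fin 5, ↥(Orb i)) = ∑ i : Fin 5, (Orb i).ncard := by
  have : ∀ i : Fin 5, Finite ↥(Orb i) := fun i => (orb_le i).1.to_subtype
  rw [Nat.card_sigma]
  exact Finset.sum_congr rfl fun i _ => Nat.card_coe_set_eq _

theorem finite_quot : Finite (Spor.Ly ⧸ lyH) := by
  have : ∀ i : Fin 5, Finite ↥(Orb i) := fun i => (orb_le i).1.to_subtype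
  exact Finite.of_surjective _ orbMap_surjective

theorem index_le_sum : lyH.index ≤ ∑ i : Fin 5, (Orb i).ncard := by
  have : ∀ i : Fin 5, Finite ↥(Orb i) := fun i => (orb_le i).1.to_subtype
  rw [← card_sigma_orb]
  exact Nat.card_le_card_of_surjective _ orbMap_surjective

/-- The index of `⟨a, b, c, d⟩` is finite and at most 8835156. -/
theorem ly_index_bound : lyH.index ≠ 0 ∧ lyH.index ≤ 8835156 := by
  have := finite_quot
  refine ⟨?_, sum_orbSize ▸ index_le_sum.trans (Finset.sum_le_sum fun i _ => (orb_le i).2)⟩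
  exact Nat.card_ne_zero.2 ⟨⟨base⟩, finite_quot⟩

theorem orb_exact (h : lyH.index = 8835156) :
    (∀ i : Fin 5, (Orb i).ncard = orbSize i) ∧ Function.Injective orbMap := by
  have : ∀ i : Fin 5, Finite ↥(Orb i) := fun i => (orb_le i).1.to_subtype
  have := finite_quot
  have h1 := index_le_sum
  rw [h] at h1
  have h2 : ∑ i : Fin 5, (Orb i).ncard ≤ ∑ i, orbSize i := Finset.sum_le_sum fun i _ => (orb_le i).2
  have he : ∑ i : Fin 5, (Orb i).ncard = ∑ i, orbSize i := le_antisymm h2 (sum_orbSize.symm ▸ h1)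
  refine ⟨fun i => (Finset.sum_eq_sum_iff_of_le fun j _ => (orb_le j).2).1 he i (Finset.mem_univ i), ?_⟩
  exact ((Nat.bijective_iff_surjective_and_card _).2
    ⟨orbMap_surjective, by rw [card_sigma_orb, he, sum_orbSize, ← h]; rfl⟩).1

/-- The representative of a class. -/
noncomputable def rep (i : ℕ) : Spor.Ly :=
  ((HNPresented.defWord 18 facts i).map fun a => if a = 18 then zz else elL a).prod

theorem pt_eq_rep (i : ℕ) : pt i = ((rep i : Spor.Ly) : Spor.Ly ⧸ lyH) := by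
  show ((rep i * 1 : Spor.Ly) : Spor.Ly ⧸ lyH) = _
  rw [mul_one]

theorem subOrbit_eq (x : Fin 4 → Spor.Ly) (j : Fin 4) (i : ℕ) (hx : x j = rep i) :
    LyPresented.subOrbit lyH x j = Orb i := by
  ext q
  constructor
  · rintro ⟨h, hh, rfl⟩
    rw [← range_toLy] at hh
    obtain ⟨k, rfl⟩ := hh
    refine ⟨k, ?_⟩
    show toLy k • pt i = _
    rw [pt_eq_rep, hx]
    rfl
  · rintro ⟨k, rfl⟩
    refine ⟨toLy k, range_toLy ▸ ⟨k, rfl⟩, ?_⟩
    show toLy k • pt i = _
    rw [pt_eq_rep, hx]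
    rfl

theorem rep_one : rep 1 = (PresentedGroup.of Ly.Gen.z : Spor.Ly) := by
  show ((HNPresented.defWord 18 facts 1).map fun a => if a = 18 then zz else elL a).prod = _
  rw [show HNPresented.defWord 18 facts 1 = [18] from rfl, List.map_singleton, if_pos rfl, List.prod_singleton]
  rfl

/-- At equality there are exactly five suborbits, of sizes 1, 19530, 968750, 2034375, 5812500; the smallest
nontrivial one is that of `z`. -/
theorem ly_suborbits_z (h : lyH.index = 8835156) : ∃ x : Fin 4 → Spor.Ly, x 0 = PresentedGroup.of Ly.Gen.z ∧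
    (∀ j, x j ∉ lyH) ∧
    (∀ g : Spor.Ly, g ∈ lyH ∨ ∃ j, ((g : Spor.Ly) : Spor.Ly ⧸ lyH) ∈ LyPresented.subOrbit lyH x j) ∧
    (∀ i j, ∀ q, q ∈ LyPresented.subOrbit lyH x i → q ∈ LyPresented.subOrbit lyH x j → i = j) ∧
    ∀ j, (LyPresented.subOrbit lyH x j).ncard = ![19530, 968750, 2034375, 5812500] j := by
  obtain ⟨hsize, hinj⟩ := orb_exact h
  set c : Fin 4 → Fin 5 := ![1, 3, 4, 2] with hc
  have hc_inj : ∀ i j, c i = c j → i = j := by rw [hc]; decide
  have hc0 : ∀ j, c j ≠ 0 := by rw [hc]; decide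
  have hdisj : ∀ (i j : Fin 5) (q : Spor.Ly ⧸ lyH), q ∈ Orb i → q ∈ Orb j → i = j := fun i j q hi hj =>
    congrArg Sigma.fst (@hinj ⟨i, ⟨q, hi⟩⟩ ⟨j, ⟨q, hj⟩⟩ rfl)
  have hsub : ∀ j, LyPresented.subOrbit lyH (fun j => rep (c j)) j = Orb (c j) := fun j => subOrbit_eq _ j _ rfl
  refine ⟨fun j => rep (c j), rep_one, fun j hj => hc0 j ?_, fun g => ?_, fun i j q hi hj => ?_, fun j => ?_⟩
  · refine hdisj (c j) 0 base ⟨1, ?_⟩ (by show base ∈ Orb 0; rw [orb_zero]; rfl)
    show toLy 1 • pt (c j) = base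
    rw [map_one, one_smul, pt_eq_rep]
    exact QuotientGroup.eq.2 (by simpa using hj)
  · obtain ⟨i, hi, hq⟩ := mem_cosets.1 (cosets_eq_univ ((g : Spor.Ly) : Spor.Ly ⧸ lyH))
    rcases Nat.eq_zero_or_pos i with rfl | hpos
    · left
      rw [orb_zero, Set.mem_singleton_iff, QuotientGroup.eq, mul_one] at hq
      exact inv_mem_iff.1 hq
    · obtain ⟨j, hj⟩ : ∃ j, (c j : ℕ) = i := by
        rw [hc]
        interval_cases i
        exacts [⟨0, rfl⟩, ⟨3, rfl⟩, ⟨1, rfl⟩, ⟨2, rfl⟩]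
      exact Or.inr ⟨j, by rw [hsub, hj]; exact hq⟩
  · rw [hsub] at hi hj
    exact hc_inj i j (hdisj _ _ q hi hj)
  · rw [hsub, hsize, hc]
    fin_cases j <;> rfl

/-- The suborbits, without naming the representative of the smallest. -/
theorem ly_suborbits (h : lyH.index = 8835156) : ∃ x : Fin 4 → Spor.Ly, (∀ j, x j ∉ lyH) ∧
    (∀ g : Spor.Ly, g ∈ lyH ∨ ∃ j, ((g : Spor.Ly) : Spor.Ly ⧸ lyH) ∈ LyPresented.subOrbit lyH x j) ∧
    (∀ i j, ∀ q, q ∈ LyPresented.subOrbit lyH x i → q ∈ LyPresented.subOrbit lyH x j → i = j) ∧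
    ∀ j, (LyPresented.subOrbit lyH x j).ncard = ![19530, 968750, 2034375, 5812500] j :=
  let ⟨x, _, hx⟩ := ly_suborbits_z h
  ⟨x, hx⟩

end Cfsg.Agent.Lyons
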