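import Cfsg.Agent.Lib.Lyons.GenNeOne
import Cfsg.Agent.Lib.Lyons.PChain

/-!
# Witness subgroups in the image of Ly (helper11)

* `runP`, `inImg_of_prog` : matrices computed by a program of products lie in the image
* `WitData`, `pow_dvd_card` : a checked chain of generators gives `p ^ n ∣ Nat.card Ly`
-/

set_option autoImplicit false
set_option maxRecDepth 100000

open Cfsg

namespace Cfsg.Agent.Lyons

open Cfsg.Agent.CosetEnum (force force_eq lane beq_iff)
open Cfsg.Agent.LyPresented (IsRep mmul mkPack)

/-- Run a program of products and test the table of nodes. -/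
noncomputable def runP : List (ℕ × ℕ) → ℕ → (ℕ → ℕ) → ((ℕ → ℕ) → Bool) → Bool := fun l =>
  List.rec (motive := fun _ => ℕ → (ℕ → ℕ) → ((ℕ → ℕ) → Bool) → Bool) (fun _ env k => k env)
    (fun st _ ih n env k => force (mmul 111 (env st.1) (env st.2)) fun v =>
      ih (n + 1) (fun x => bif Nat.beq x n then v else env x) k) l

/-- A packed matrix in the image of Ly. -/
def InImg (C : ℕ) : Prop := ∃ g : Spor.Ly, IsRep 111 C ((phi g : GL (Fin 111) (ZMod 5)) : M111)

theorem InImg.mul {C D : ℕ} (hC : InImg C) (hD : InImg D) : InImg (mmul 111 C D) := by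
  obtain ⟨g, hg⟩ := hC
  obtain ⟨h, hh⟩ := hD
  refine ⟨g * h, ?_⟩
  rw [map_mul, Units.val_mul]
  exact hg.mul (by norm_num) hh

theorem runP_spec : ∀ (l : List (ℕ × ℕ)) (n : ℕ) (env : ℕ → ℕ) (k : (ℕ → ℕ) → Bool),
    runP l n env k = true → (∀ x, InImg (env x)) → ∃ env' : ℕ → ℕ, (∀ x, InImg (env' x)) ∧ k env' = true
  | [], _, env, _, h, he => ⟨env, he, h⟩
  | st :: r, n, env, k, h, he => by
    change force (mmul 111 (env st.1) (env st.2)) (fun v =>
      runP r (n + 1) (fun x => bif Nat.beq x n then v else env x) k) = true at h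
    rw [force_eq] at h
    refine runP_spec r (n + 1) _ k h fun x => ?_
    cases Nat.beq x n
    · exact he x
    · exact (he _).mul (he _)

/-- The packed matrix of a letter. -/
noncomputable def letterP (q : ℕ) : ℕ := bif Nat.blt q 20 then mkPack 111 (entry q) else pone

theorem inImg_letterP (q : ℕ) : InImg (letterP q) := by
  unfold letterP
  cases h : Nat.blt q 20
  · exact ⟨1, by rw [map_one, Units.val_one, cond_false]; exact pone_rep⟩
  · refine ⟨wordLy [q], ?_⟩
    have h1 := phi_ev [q] (fun x hx => by rw [List.mem_singleton.mp hx]; exact Nat.blt_eq.mp h)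
    rw [List.map_cons, List.map_nil, List.prod_cons, List.prod_nil, mul_one] at h1
    rw [h1, cond_true]
    exact IsRep.mk 111 (entry q)

/-- Data of a chain of generators. -/
structure WitData where
  p : ℕ
  n : ℕ
  prog : List (ℕ × ℕ)
  nodes : List ℕ
  rows : List (List ℕ)
  pows : List (List ℕ)
  conjs : List (ℕ × ℕ × List ℕ)
  vecs : List ℕ

namespace WitData

variable (D : WitData)

/-- Entry of a generator. -/
noncomputable def uEntry (i r k : ℕ) : ℕ := lane 3 ((D.rows.getD i []).getD r 0) k

/-- Packed generator. -/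
noncomputable def uP (i : ℕ) : ℕ := mkPack 111 (D.uEntry i)

/-- The vector of a step as the first row of a matrix. -/
noncomputable def vP (i : ℕ) : ℕ :=
  mkPack 111 fun r k => bif Nat.beq r 0 then lane 3 (D.vecs.getD i 0) k else 0

/-- The packed product of generators. -/
noncomputable def uWord (w : List ℕ) : ℕ :=
  List.rec (motive := fun _ => ℕ) pone (fun i _ ih => force ih fun r => force (D.uP i) fun m => mmul 111 m r) w

/-- The program gives the generators. -/
noncomputable def progOK : Bool :=
  runP D.prog 20 letterP fun env => (List.range D.n).all fun i => Nat.beq (env (D.nodes.getD i 0)) (D.uP i)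

/-- The powers. -/
noncomputable def powOK : Bool :=
  (List.range D.n).all fun i => (D.pows.getD i []).all (fun j => Nat.blt i j && Nat.blt j D.n) &&
    Nat.beq (D.uWord (List.replicate D.p i)) (D.uWord (D.pows.getD i []))

/-- The indices of the conjugates. -/
def conjIdxOK : Bool :=
  (List.range D.n).all fun i => (List.range D.n).all fun j =>
    Nat.ble j i || D.conjs.any fun c => Nat.beq c.1 i && Nat.beq c.2.1 j

/-- A range of the conjugation relations. -/
noncomputable def conjOK (s len : ℕ) : Bool :=
  ((D.conjs.drop s).take len).all fun c => c.2.2.all (fun j => Nat.blt c.1 j && Nat.blt j D.n) &&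
    Nat.beq (D.uWord [c.1, c.2.1]) (D.uWord (c.2.2 ++ [c.1]))

/-- The separating vectors. -/
noncomputable def vecOK : Bool :=
  (List.range D.n).all fun i => force (D.vP i) fun V => !(Nat.beq (mmul 111 V (D.uP i)) V) &&
    (List.range D.n).all fun j => Nat.ble j i || Nat.beq (mmul 111 V (D.uP j)) V

/-- Matrix of a generator. -/
noncomputable def uM (i : ℕ) : M111 := Matrix.of fun r k => (D.uEntry i r k : ZMod 5)

theorem uP_rep (i : ℕ) : IsRep 111 (D.uP i) (D.uM i) := IsRep.mk 111 _

theorem exists_vP_rep (i : ℕ) : ∃ V : M111, IsRep 111 (D.vP i) V := ⟨_, IsRep.mk 111 _⟩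

attribute [local irreducible] uP vP uM mmul pone

theorem exists_pre (h : D.progOK = true) {i : ℕ} (hi : i < D.n) :
    ∃ g : Spor.Ly, ((phi g : GL (Fin 111) (ZMod 5)) : M111) = D.uM i := by
  obtain ⟨env, he, hk⟩ := runP_spec _ _ _ _ h inImg_letterP
  obtain ⟨g, hg⟩ := he (D.nodes.getD i 0)
  rw [beq_iff.mp (List.all_eq_true.mp hk i (List.mem_range.mpr hi))] at hg
  exact ⟨g, hg.unique (D.uP_rep i)⟩

theorem pow_dvd_card [Finite Spor.Ly] (hp : D.p.Prime) (hprog : D.progOK = true) (hpow : D.powOK = true)
    (hidx : D.conjIdxOK = true) (hconj : D.conjs.all (fun c => c.2.2.all (fun j => Nat.blt c.1 j && Nat.blt j D.n) &&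
      Nat.beq (D.uWord [c.1, c.2.1]) (D.uWord (c.2.2 ++ [c.1]))) = true)
    (hvec : D.vecOK = true) : D.p ^ D.n ∣ Nat.card Spor.Ly := by
  choose f hf using fun i : Fin D.n => D.exists_pre hprog i.isLt
  let u : ℕ → GL (Fin 111) (ZMod 5) := fun i => if h : i < D.n then phi (f ⟨i, h⟩) else 1
  have hu : ∀ i < D.n, ((u i : GL (Fin 111) (ZMod 5)) : M111) = D.uM i := fun i hi => by
    simp only [u, dif_pos hi]
    exact hf ⟨i, hi⟩
  have hw : ∀ w : List ℕ, (∀ j ∈ w, j < D.n) → IsRep 111 (D.uWord w) (((w.map u).prod : GL (Fin 111) (ZMod 5)) : M111) := by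
    intro w
    induction w with
    | nil => intro _; rw [List.map_nil, List.prod_nil, Units.val_one]; exact pone_rep
    | cons i v ih =>
      intro hv
      show IsRep 111 (force (D.uWord v) fun r => force (D.uP i) fun m => mmul 111 m r) _
      rw [force_eq, force_eq, List.map_cons, List.prod_cons, Units.val_mul, hu i (hv i List.mem_cons_self)]
      exact (D.uP_rep i).mul (by norm_num) (ih fun j hj => hv j (List.mem_cons_of_mem _ hj))
  have heq : ∀ a b : List ℕ, (∀ j ∈ a, j < D.n) → (∀ j ∈ b, j < D.n) → D.uWord a = D.uWord b →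
      (a.map u).prod = (b.map u).prod := fun a b ha hb e =>
    Units.ext (by
      have h3 := hw b hb
      rw [← e] at h3
      exact (hw a ha).unique h3)
  have hmem : ∀ i (w : List ℕ), (∀ j ∈ w, i < j ∧ j < D.n) → (w.map u).prod ∈ tailGen u D.n (i + 1) := fun i w h =>
    Subgroup.list_prod_mem _ fun x hx => by
      obtain ⟨j, hj, rfl⟩ := List.mem_map.mp hx
      exact Subgroup.subset_closure ⟨j, (h j hj).1, (h j hj).2, rfl⟩
  simp only [powOK, List.all_eq_true, Bool.and_eq_true, Nat.blt_eq, List.mem_range, beq_iff] at hpow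
  simp only [conjIdxOK, List.all_eq_true, List.mem_range, Bool.or_eq_true, Nat.ble_eq, List.any_eq_true,
    Bool.and_eq_true, beq_iff] at hidx
  simp only [List.all_eq_true, Bool.and_eq_true, Nat.blt_eq, beq_iff] at hconj
  have c1 : ∀ i < D.n, u i ^ D.p ∈ tailGen u D.n (i + 1) := fun i hi => by
    obtain ⟨h1, h2⟩ := hpow i hi
    rw [← List.prod_replicate, ← List.map_replicate,
      heq _ _ (fun j hj => (List.eq_of_mem_replicate hj) ▸ hi) (fun j hj => (h1 j hj).2) h2]
    exact hmem i _ h1
  have c2 : ∀ i < D.n, ∀ j, i < j → j < D.n → u i * u j * (u i)⁻¹ ∈ tailGen u D.n (i + 1) := fun i hi j hij hj => by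
    rcases hidx i hi j hj with h | ⟨c, hc, rfl, rfl⟩
    · omega
    obtain ⟨h1, h2⟩ := hconj c hc
    have e := heq [c.1, c.2.1] (c.2.2 ++ [c.1])
      (fun x hx => by
        simp only [List.mem_cons, List.not_mem_nil, or_false] at hx
        rcases hx with rfl | rfl <;> assumption)
      (fun x hx => by
        rcases List.mem_append.mp hx with hx | hx
        · exact (h1 x hx).2
        · rw [List.mem_singleton.mp hx]; exact hi) h2
    simp only [List.map_cons, List.map_nil, List.map_append, List.prod_cons, List.prod_nil, mul_one,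
      List.prod_append] at e
    rw [e, mul_inv_cancel_right]
    exact hmem _ _ h1
  have c3 : ∀ i < D.n, u i ∉ tailGen u D.n (i + 1) := fun i hi hin => by
    simp only [vecOK, List.all_eq_true, List.mem_range, force_eq, Bool.and_eq_true, Bool.not_eq_true',
      Bool.or_eq_true, Nat.ble_eq, beq_iff] at hvec
    obtain ⟨hmov, hfix⟩ := hvec i hi
    obtain ⟨V, hV⟩ := D.exists_vP_rep i
    have key : ∀ x ∈ tailGen u D.n (i + 1), V * ((x : GL (Fin 111) (ZMod 5)) : M111) = V := by
      intro x hx
      induction hx using Subgroup.closure_induction with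
      | mem x hx =>
        obtain ⟨j, h1, h2, rfl⟩ := hx
        rcases hfix j h2 with h | h
        · omega
        rw [hu j h2]
        have h3 := hV.mul (by norm_num) (D.uP_rep j)
        rw [h] at h3
        exact h3.unique hV
      | one => rw [Units.val_one, mul_one]
      | mul a b _ _ ha hb => rw [Units.val_mul, ← mul_assoc, ha, hb]
      | inv a _ ha =>
        calc V * ((a⁻¹ : GL (Fin 111) (ZMod 5)) : M111) = V * (a : M111) * ((a⁻¹ : GL (Fin 111) (ZMod 5)) : M111) := by
              rw [ha]
          _ = V := by rw [mul_assoc, ← Units.val_mul, mul_inv_cancel, Units.val_one, mul_one]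
    have h1 := key _ hin
    rw [hu i hi] at h1
    have h2 := hV.mul (by norm_num) (D.uP_rep i)
    rw [h1] at h2
    rw [beq_iff.mpr (rep_num_unique h2 hV)] at hmov
    exact Bool.noConfusion hmov
  have hcard : Nat.card (tailGen u D.n 0) = D.p ^ D.n := by
    have := natCard_tailGen hp u D.n c1 c2 c3 D.n le_rfl
    rwa [Nat.sub_self] at this
  have hle : tailGen u D.n 0 ≤ phi.range := (Subgroup.closure_le _).2 (by
    rintro x ⟨j, -, hj, rfl⟩
    simp only [u, dif_pos hj]
    exact ⟨_, rfl⟩)
  rw [← hcard]
  exact (Subgroup.card_dvd_of_le hle).trans (Subgroup.card_range_dvd phi)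

end WitData

end Cfsg.Agent.Lyons
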