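import Cfsg.Agent.Lib.Lyons.GenNeOne

/-!
# Elements of order 11, 37, 67 in the image of Ly (helper11)

* `orders_dvd` : `11 * 37 * 67 ∣ Nat.card Ly`
-/

set_option autoImplicit false
set_option maxRecDepth 100000
set_option Elab.async false

open Cfsg

namespace Cfsg.Agent.Lyons

open Cfsg.Agent.CosetEnum (force force_eq beq_iff)
open Cfsg.Agent.LyPresented (IsRep mmul)

/-- A packed power. -/
noncomputable def ppowM (P : ℕ) : ℕ → ℕ := fun m =>
  Nat.rec (motive := fun _ => ℕ) pone (fun _ ih => force ih fun r => mmul 111 r P) m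

theorem ppowM_rep {P : ℕ} {A : M111} (h : IsRep 111 P A) : ∀ m, IsRep 111 (ppowM P m) (A ^ m)
  | 0 => by rw [pow_zero]; exact pone_rep
  | m + 1 => by
    show IsRep 111 (force (ppowM P m) fun r => mmul 111 r P) _
    rw [force_eq, pow_succ]
    exact (ppowM_rep h m).mul (by norm_num) h

/-- The matrix of a word has prime order `p`. -/
noncomputable def ordB (w : List ℕ) (p : ℕ) : Bool :=
  w.all (fun q => Nat.blt q 20) && force (pword w) fun P => !(Nat.beq P pone) && Nat.beq (ppowM P p) pone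

theorem orderOf_of_ordB {w : List ℕ} {p : ℕ} (hp : p.Prime) (h : ordB w p = true) : orderOf (phi (wordLy w)) = p := by
  simp only [ordB, force_eq, Bool.and_eq_true, Bool.not_eq_true', beq_iff] at h
  obtain ⟨hw, hne, hpow⟩ := h
  have hrep : IsRep 111 (pword w) ((phi (wordLy w) : GL (Fin 111) (ZMod 5)) : M111) := by
    rw [phi_ev w fun q hq => Nat.blt_eq.mp (List.all_eq_true.mp hw q hq)]
    exact pword_rep w
  haveI : Fact p.Prime := ⟨hp⟩
  refine orderOf_eq_prime (Units.ext ?_) fun e => ?_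
  · rw [Units.val_pow_eq_pow_val, Units.val_one]
    have h3 := ppowM_rep hrep p
    rw [hpow] at h3
    exact h3.unique pone_rep
  · rw [e, Units.val_one] at hrep
    rw [beq_iff.mpr (rep_num_unique hrep pone_rep)] at hne
    exact Bool.noConfusion hne

theorem ord_check11 : ordB ([16,16,16,19,17,2,5,1,0,2,17,3,4] ++ [16,16,16,19,17,2,5,1,0,2,17,3,4] ++
    [16,16,16,19,17,2,5,1,0,2,17,3,4]) 11 = true := by decide +kernel

theorem ord_check37 : ordB [0,19,0,0,5,4,17,4,19,19,5] 37 = true := by decide +kernel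

theorem ord_check67 : ordB [19,18,2,5,19,17,19] 67 = true := by decide +kernel

theorem prime_dvd [Finite Spor.Ly] {w : List ℕ} {p : ℕ} (hp : p.Prime) (h : ordB w p = true) :
    p ∣ Nat.card Spor.Ly :=
  (orderOf_of_ordB hp h) ▸ (orderOf_map_dvd phi (wordLy w)).trans (orderOf_dvd_natCard _)

theorem orders_dvd [Finite Spor.Ly] : 11 * 37 * 67 ∣ Nat.card Spor.Ly :=
  Nat.Coprime.mul_dvd_of_dvd_of_dvd (by norm_num)
    (Nat.Coprime.mul_dvd_of_dvd_of_dvd (by norm_num) (prime_dvd (by norm_num) ord_check11)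
      (prime_dvd (by norm_num) ord_check37))
    (prime_dvd (by norm_num) ord_check67)

end Cfsg.Agent.Lyons
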