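import Cfsg.Agent.Lib.Lyons.WitCore
import Cfsg.Agent.Lib.Lyons.WitTwoData

/-!
# A subgroup of order `2 ^ 8` in Ly (helper11)

* `two_pow_eight_dvd`
-/

set_option autoImplicit false
set_option maxRecDepth 100000
set_option Elab.async false

open Cfsg

namespace Cfsg.Agent.Lyons

/-- The data. -/
def wTwo : WitData where
  p := 2
  n := 8
  prog := wTwoProg
  nodes := wTwoNodes
  rows := wTwoRows
  pows := wTwoPow
  conjs := wTwoConj
  vecs := wTwoVec

theorem wTwo_prog : wTwo.progOK = true := by decide +kernel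

theorem wTwo_pow : wTwo.powOK = true := by decide +kernel

theorem wTwo_idx : wTwo.conjIdxOK = true := by decide +kernel

theorem wTwo_conj0 : wTwo.conjOK 0 14 = true := by decide +kernel

theorem wTwo_conj1 : wTwo.conjOK 14 14 = true := by decide +kernel

theorem wTwo_vec : wTwo.vecOK = true := by decide +kernel

theorem two_pow_eight_dvd [Finite Spor.Ly] : 2 ^ 8 ∣ Nat.card Spor.Ly := by
  refine wTwo.pow_dvd_card Nat.prime_two wTwo_prog wTwo_pow wTwo_idx ?_ wTwo_vec
  have e : wTwo.conjs = (wTwo.conjs.drop 0).take 14 ++ (wTwo.conjs.drop 14).take 14 := rfl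
  rw [e, List.all_append, Bool.and_eq_true]
  exact ⟨wTwo_conj0, wTwo_conj1⟩

end Cfsg.Agent.Lyons
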